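import Mathlib

/-! A transfer to a group of order two is trivial away from the base point, when the cosets can be
grouped in even orbits of a normalised subgroup with compatible characters. -/

namespace CfsgLib.OrbitTransfer

open Subgroup MulAction Finset

variable {G : Type*} [Group G] (H E : Subgroup G) (φ : ↥H →* Multiplicative (ZMod 2))

local notation "Ω" => G ⧸ H

/-- The value of the character at the Schreier element. -/
noncomputable def f (a : G) (q : Ω) : ZMod 2 :=
  Multiplicative.toAdd (φ ⟨(a • q).out⁻¹ * a * q.out, by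
    rw [mul_assoc]
    exact QuotientGroup.eq.1 ((QuotientGroup.out_eq' (a • q)).trans (by
      conv_lhs => rw [← QuotientGroup.out_eq' q]
      rfl))⟩)

theorem f_mul (a b : G) (q : Ω) : f H φ (a * b) q = f H φ a (b • q) + f H φ b q := by
  unfold f
  rw [← toAdd_mul, ← map_mul]
  congr 2
  ext
  simp [mul_smul, mul_assoc]

/-- Independence of the coset representative on stabilisers. -/
theorem f_stab {a g : G} {q : Ω} (hg : (g : Ω) = q) (ha : g⁻¹ * a * g ∈ H) :
    f H φ a q = Multiplicative.toAdd (φ ⟨g⁻¹ * a * g, ha⟩) := by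
  have hh : g⁻¹ * q.out ∈ H := QuotientGroup.eq.1 (hg.trans (QuotientGroup.out_eq' q).symm)
  have hfix : a • q = q := by
    rw [← hg]
    show ((a * g : G) : Ω) = g
    rw [QuotientGroup.eq]
    simpa [mul_assoc] using inv_mem ha
  unfold f
  have : (⟨(a • q).out⁻¹ * a * q.out, by
      rw [hfix]; simpa [mul_assoc] using mul_mem (mul_mem (inv_mem hh) ha) hh⟩ : H)
      = ⟨_, inv_mem hh⟩ * ⟨g⁻¹ * a * g, ha⟩ * ⟨_, hh⟩ := by
    ext
    simp [hfix, mul_assoc]
  rw [this, φ.map_mul, φ.map_mul, mul_comm _ (φ ⟨g⁻¹ * a * g, ha⟩), mul_assoc, ← φ.map_mul]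
  congr 1
  rw [mul_eq_left]
  convert φ.map_one
  simp

theorem z4 : ∀ a b c d : ZMod 2, a + c + (b + d) = a + b + (c + d) := by decide

theorem z1 : ∀ a : ZMod 2, a ≠ 0 → a = 1 := by decide

theorem z01 : ∀ a : ZMod 2, a = 0 ∨ a = 1 := by decide

theorem z2 : (1 : ZMod 2) + 1 ≠ 1 := by decide

theorem zc : ∀ a b c d g : ZMod 2, a + b = g + c → a = b + d + (g + d) + c := by decide

theorem zz : ∀ a : ZMod 2, a + a = 0 := by decide

variable [Finite G]

omit [Finite G] in
theorem transfer_eq [Fintype Ω] [H.FiniteIndex] (a : G) :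
    Multiplicative.toAdd (φ.transfer a) = ∑ q : Ω, f H φ a q := by
  classical
  obtain rfl : ‹Fintype Ω› = H.fintypeQuotientOfFiniteIndex := Subsingleton.elim _ _
  let _ : Fintype Ω := H.fintypeQuotientOfFiniteIndex
  let T : H.LeftTransversal := ⟨Set.range Quotient.out, isComplement_range_left Quotient.out_eq'⟩
  have hT : ∀ q : Ω, (T.2.leftQuotientEquiv q : G) = q.out := fun q =>
    IsComplement.leftQuotientEquiv_apply Quotient.out_eq' q
  rw [MonoidHom.transfer_def φ T a]
  unfold Subgroup.leftTransversals.diff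
  rw [toAdd_prod]
  refine Fintype.sum_equiv (MulAction.toPerm a).symm _ _ fun q => ?_
  unfold f
  congr 2
  ext
  simp only [MulAction.toPerm_symm_apply, smul_inv_smul]
  rw [smul_apply_eq_smul_apply_inv_smul, hT, hT]
  simp [mul_assoc]

/-- Admissible extensions of the local character. -/
structure Adm (q : Ω) (l : G → ZMod 2) : Prop where
  add : ∀ a ∈ E, ∀ b ∈ E, l (a * b) = l a + l b
  ext : ∀ d ∈ E, d • q = q → l d = f H φ d q
  two : Nat.card (orbit E q) = 2 → ∀ e ∈ E, l e = 0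

open scoped Classical in
/-- The potential attached to a base point and an admissible character. -/
noncomputable def pot (q : Ω) (l : G → ZMod 2) (p : Ω) : ZMod 2 :=
  if h : ∃ e : E, (e : G) • q = p then f H φ h.choose q + l h.choose else 0

theorem pot_eq {q : Ω} {l : G → ZMod 2} (hl : Adm H E φ q l) {e : G} (he : e ∈ E) :
    pot H E φ q l (e • q) = f H φ e q + l e := by
  have h : ∃ e' : E, (e' : G) • q = e • q := ⟨⟨e, he⟩, rfl⟩
  rw [pot, dif_pos h]
  set e' := (h.choose : G) with he'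
  have he'E : e' ∈ E := h.choose.2
  have he'q : e' • q = e • q := h.choose_spec
  have hdE : e⁻¹ * e' ∈ E := mul_mem (inv_mem he) he'E
  have hd : (e⁻¹ * e') • q = q := by rw [mul_smul, he'q, inv_smul_smul]
  have hsplit : e' = e * (e⁻¹ * e') := (mul_inv_cancel_left e e').symm
  rw [hsplit, f_mul, hd, hl.add e he _ hdE, hl.ext _ hdE hd,
    show ∀ a b c : ZMod 2, a + b + (c + b) = a + c by decide]

theorem adm_smul {q : Ω} {l : G → ZMod 2} (hl : Adm H E φ q l) {e : G} (he : e ∈ E) :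
    Adm H E φ (e • q) l := by
  refine ⟨hl.add, fun d hd hdq => ?_, fun h2 => hl.two ?_⟩
  · have hd' : e⁻¹ * d * e ∈ E := mul_mem (mul_mem (inv_mem he) hd) he
    have hfix : (e⁻¹ * d * e) • q = q := by rw [mul_smul, mul_smul, hdq, inv_smul_smul]
    have h1 := hl.ext _ hd' hfix
    have h2 : f H φ (e * (e⁻¹ * d * e)) q = f H φ (d * e) q := by congr 1; group
    rw [f_mul H φ e (e⁻¹ * d * e) q, f_mul H φ d e q, hfix] at h2
    have h3 : l (e * (e⁻¹ * d * e)) = l (d * e) := by congr 1; group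
    rw [hl.add e he _ hd', hl.add d hd e he] at h3
    have hA : ∀ le ld lc fd fe fc : ZMod 2, lc = fc → le + lc = ld + le → fe + fc = fd + fe → ld = fd := by
      decide
    exact hA _ _ _ _ _ _ h1 h3 h2
  · rw [show orbit E q = orbit E (e • q) from (MulAction.orbit_smul (⟨e, he⟩ : E) q).symm]
    exact h2

theorem adm_conj {q : Ω} {l : G → ZMod 2} (hl : Adm H E φ q l) {x : G}
    (hx : ∀ e, e ∈ E ↔ x * e * x⁻¹ ∈ E) :
    Adm H E φ (x • q) (fun e => l (x⁻¹ * e * x)) := by
  have hx' : ∀ e ∈ E, x⁻¹ * e * x ∈ E := fun e he => (hx _).2 (by simpa [mul_assoc] using he)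
  refine ⟨fun a ha b hb => ?_, fun d hd hdq => ?_, fun h2 e he => hl.two ?_ _ (hx' e he)⟩
  · rw [← hl.add _ (hx' a ha) _ (hx' b hb)]; congr 1; group
  · have hfix : (x⁻¹ * d * x) • q = q := by rw [mul_smul, mul_smul, hdq, inv_smul_smul]
    rw [hl.ext _ (hx' d hd) hfix]
    have h2 : f H φ (x * (x⁻¹ * d * x)) q = f H φ (d * x) q := by congr 1; group
    rw [f_mul H φ x (x⁻¹ * d * x) q, f_mul H φ d x q, hfix] at h2
    exact (show ∀ a b c : ZMod 2, a + b = c + a → b = c by decide) _ _ _ h2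
  · rw [← h2]
    refine Nat.card_congr
      { toFun := fun p => ⟨x • (p : Ω), by
          obtain ⟨⟨e', he'⟩, hp⟩ := p.2
          refine ⟨⟨x * e' * x⁻¹, (hx e').1 he'⟩, ?_⟩
          show (x * e' * x⁻¹) • x • q = _
          rw [← hp, mul_smul, mul_smul, inv_smul_smul]; rfl⟩
        invFun := fun p => ⟨x⁻¹ • (p : Ω), by
          obtain ⟨⟨e', he'⟩, hp⟩ := p.2
          refine ⟨⟨x⁻¹ * e' * x, hx' e' he'⟩, ?_⟩
          show (x⁻¹ * e' * x) • q = _
          rw [← hp, mul_smul, mul_smul]; rfl⟩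
        left_inv := fun p => by ext; simp
        right_inv := fun p => by ext; simp }

theorem sum_add_const {α : Type*} (s : Finset α) (hs : 2 ∣ s.card) (g : α → ZMod 2) (c : ZMod 2) :
    ∑ p ∈ s, (g p + c) = ∑ p ∈ s, g p := by
  obtain ⟨k, hk⟩ := hs
  rw [sum_add_distrib, sum_const, nsmul_eq_mul, hk]
  push_cast
  rw [show (2 : ZMod 2) = 0 from rfl]
  simp

open scoped Classical in
theorem main [Fintype Ω] (hE : IsPGroup 2 E) (hEH : E ≤ H) {x : G} (hxH : x ∈ H)
    (hx : ∀ e, e ∈ E ↔ x * e * x⁻¹ ∈ E)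
    (hfix : ∀ g : G, (∀ e ∈ E, g⁻¹ * e * g ∈ H) → g ∈ H)
    (hadm : ∀ q : Ω, q ≠ ((1 : G) : Ω) → ∃ l, Adm H E φ q l) :
    φ.transfer x = φ ⟨x, hxH⟩ := by
  have : Fact (Nat.Prime 2) := ⟨Nat.prime_two⟩
  let q0 : Ω := ((1 : G) : Ω)
  have hq0 : ∀ a ∈ H, a • q0 = q0 := fun a ha => by
    show ((a * 1 : G) : Ω) = ((1 : G) : Ω)
    rw [QuotientGroup.eq]; simpa using inv_mem ha
  let Orb := Quotient (MulAction.orbitRel E Ω)
  let π : Ω → Orb := fun q => Quotient.mk _ q
  have : Finite Orb := Quotient.finite _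
  let _ : Fintype Orb := Fintype.ofFinite Orb
  have hπ : ∀ p q, π p = π q ↔ ∃ e ∈ E, e • q = p := by
    intro p q
    show Quotient.mk _ p = Quotient.mk _ q ↔ _
    rw [Quotient.eq]
    show p ∈ orbit E q ↔ _
    exact ⟨fun ⟨e, he⟩ => ⟨e, e.2, he⟩, fun ⟨e, he, h⟩ => ⟨⟨e, he⟩, h⟩⟩
  let fib : Orb → Finset Ω := fun O => univ.filter (fun p => π p = O)
  have hfibcard : ∀ q, (fib (π q)).card = Nat.card (orbit E q) := by
    intro q
    rw [← Nat.card_eq_finsetCard]
    refine Nat.card_congr (Equiv.subtypeEquivRight fun p => ?_)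
    simp only [fib, Finset.mem_filter, Finset.mem_univ, true_and, hπ]
    exact ⟨fun ⟨e, he, h⟩ => ⟨⟨e, he⟩, h⟩, fun ⟨e, he⟩ => ⟨e, e.2, he⟩⟩
  have horb : ∀ q, q ≠ q0 → ∃ k, 1 ≤ k ∧ Nat.card (orbit E q) = 2 ^ k := by
    intro q hq
    obtain ⟨k, hk⟩ := (hE.card_orbit (α := Ω) q)
    refine ⟨k, Nat.one_le_iff_ne_zero.2 fun hk0 => hq ?_, hk⟩
    rw [hk0, pow_zero] at hk
    have hs := (Nat.card_eq_one_iff_unique.1 hk).1
    have hone : ∀ e ∈ E, e • q = q := fun e he => congrArg Subtype.val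
      (hs.elim ⟨e • q, ⟨⟨e, he⟩, rfl⟩⟩ ⟨q, MulAction.mem_orbit_self q⟩)
    induction q using QuotientGroup.induction_on with
    | H g =>
      refine QuotientGroup.eq.2 ?_
      rw [mul_one]
      refine inv_mem (hfix g fun e he => ?_)
      have := hone e he
      rw [show e • (g : Ω) = ((e * g : G) : Ω) from rfl, QuotientGroup.eq] at this
      simpa [mul_assoc] using inv_mem this
  -- well-definedness of the orbit invariant
  let sg : Ω → (G → ZMod 2) → ZMod 2 := fun q l => ∑ p ∈ fib (π q), pot H E φ q l p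
  have hsg : ∀ q, q ≠ q0 → ∀ q' l l', π q' = π q → Adm H E φ q l → Adm H E φ q' l' →
      sg q' l' = sg q l := by
    intro q hq q' l l' hqq hl hl'
    obtain ⟨e0, he0, rfl⟩ := (hπ q' q).1 hqq
    have hl1 := adm_smul H E φ hl he0
    obtain ⟨k, hk1, hk⟩ := horb q hq
    have heven : 2 ∣ (fib (π q)).card := by rw [hfibcard, hk]; exact dvd_pow_self 2 (by omega)
    have step1 : sg (e0 • q) l = sg q l := by
      show ∑ p ∈ fib (π (e0 • q)), _ = ∑ p ∈ fib (π q), _
      rw [hqq, ← sum_add_const (fib (π q)) heven (fun p => pot H E φ (e0 • q) l p) (f H φ e0 q + l e0)]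
      refine sum_congr rfl fun p hp => ?_
      obtain ⟨e, he, rfl⟩ := (hπ p q).1 (mem_filter.1 hp).2
      have he' : e * e0⁻¹ ∈ E := mul_mem he (inv_mem he0)
      have e1 : e • q = (e * e0⁻¹) • e0 • q := by rw [← mul_smul, inv_mul_cancel_right]
      have hf1 := f_mul H φ (e * e0⁻¹) e0 q
      have hla := hl.add _ he' _ he0
      rw [inv_mul_cancel_right] at hf1 hla
      rw [pot_eq H E φ hl he, e1, pot_eq H E φ hl1 he', hf1, hla]
      exact z4 _ _ _ _
    rw [← step1]
    set r := e0 • q with hr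
    have hrq : π r = π q := hqq
    show ∑ p ∈ fib (π r), _ = ∑ p ∈ fib (π r), _
    rw [← sub_eq_zero, ← sum_sub_distrib, hrq]
    -- the difference is an additive function on the orbit
    let m : Ω → ZMod 2 := fun p => pot H E φ r l' p - pot H E φ r l p
    have hm : ∀ e ∈ E, m (e • r) = l' e - l e := fun e he => by
      show pot H E φ r l' (e • r) - pot H E φ r l (e • r) = _
      rw [pot_eq H E φ hl' he, pot_eq H E φ hl1 he]; ring
    show ∑ p ∈ fib (π q), m p = 0
    by_cases hz : ∀ e ∈ E, l' e - l e = 0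
    · refine sum_eq_zero fun p hp => ?_
      obtain ⟨e, he, rfl⟩ := (hπ p r).1 ((mem_filter.1 hp).2.trans hrq.symm)
      rw [hm e he, hz e he]
    push Not at hz
    obtain ⟨e1, he1, he1'⟩ := hz
    have hk2 : 2 ≤ k := by
      by_contra h
      have h2 : Nat.card (orbit E r) = 2 := by
        rw [show orbit E r = orbit E q from MulAction.orbit_smul (⟨e0, he0⟩ : E) q, hk,
          show k = 1 by omega, pow_one]
      exact he1' (by rw [hl'.two h2 e1 he1, hl1.two h2 e1 he1, sub_zero])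
    have he1' : l' e1 - l e1 = 1 := z1 _ he1'
    set A := (fib (π q)).filter (fun p => m p = 1) with hA
    set B := (fib (π q)).filter (fun p => ¬ m p = 1) with hB
    have hflip : ∀ p ∈ fib (π q), e1 • p ∈ fib (π q) ∧ m (e1 • p) = 1 + m p := by
      intro p hp
      obtain ⟨e, he, rfl⟩ := (hπ p r).1 ((mem_filter.1 hp).2.trans hrq.symm)
      refine ⟨mem_filter.2 ⟨mem_univ _, ?_⟩, ?_⟩
      · rw [← (mem_filter.1 hp).2]; exact (hπ _ _).2 ⟨e1, he1, rfl⟩
      · rw [← mul_smul, hm _ (mul_mem he1 he), hm e he, hl'.add _ he1 _ he, hl1.add _ he1 _ he, ← he1']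
        ring
    have h01 := z01
    have hmemA : ∀ p ∈ B, e1 • p ∈ A := fun p hp => by
      obtain ⟨hp, hp1⟩ := mem_filter.1 hp
      refine mem_filter.2 ⟨(hflip p hp).1, ?_⟩
      rw [(hflip p hp).2, (h01 (m p)).resolve_right hp1, add_zero]
    have hmemB : ∀ p ∈ A, e1 • p ∈ B := fun p hp => by
      obtain ⟨hp, hp1⟩ := mem_filter.1 hp
      refine mem_filter.2 ⟨(hflip p hp).1, ?_⟩
      rw [(hflip p hp).2, hp1]; exact z2
    have hAB : A.card = B.card :=
      le_antisymm (card_le_card_of_injOn _ hmemB fun a _ b _ h => smul_left_cancel e1 h)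
        (card_le_card_of_injOn _ hmemA fun a _ b _ h => smul_left_cancel e1 h)
    have htot : A.card + B.card = 2 ^ k := by
      rw [hA, hB, card_filter_add_card_filter_not, hfibcard, hk]
    have hval : ∀ p, m p = if m p = 1 then 1 else 0 := fun p => by
      rcases h01 (m p) with h | h <;> simp [h]
    rw [sum_congr rfl fun p _ => hval p, sum_boole]
    have : 2 ∣ A.card := by
      have h4 : 4 ∣ 2 ^ k := ⟨2 ^ (k - 2), by rw [show 4 = 2 ^ 2 from rfl, ← pow_add]; congr 1; omega⟩
      omega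
    exact (ZMod.natCast_eq_zero_iff _ _).2 this
  -- the permutation of the orbits
  let O0 := π q0
  have hO0 : ∀ p, π p = O0 ↔ p = q0 := fun p => by
    rw [hπ]
    exact ⟨fun ⟨e, he, h⟩ => h ▸ hq0 e (hEH he), fun h => ⟨1, one_mem _, by rw [one_smul, h]⟩⟩
  let ad : Ω → G → ZMod 2 := fun q => if h : q = q0 then fun _ => 0 else (hadm q h).choose
  have had : ∀ q, q ≠ q0 → Adm H E φ q (ad q) := fun q h => by
    simp only [ad, dif_neg h]; exact (hadm q h).choose_spec
  let s : Orb → ZMod 2 := fun O => if O = O0 then 0 else sg O.out (ad O.out)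
  have hπout : ∀ O : Orb, π O.out = O := fun O => Quotient.out_eq O
  have hxπ : ∀ p q, π p = π q → π (x • p) = π (x • q) := fun p q h => by
    obtain ⟨e, he, rfl⟩ := (hπ p q).1 h
    exact (hπ _ _).2 ⟨x * e * x⁻¹, (hx e).1 he, by rw [mul_smul, mul_smul, inv_smul_smul]⟩
  let xO : Orb → Orb := fun O => π (x • O.out)
  have hxO : Function.Bijective xO := by
    refine (Finite.injective_iff_bijective).1 fun O O' h => ?_
    obtain ⟨e, he, h⟩ := (hπ _ _).1 h
    rw [← hπout O, ← hπout O', hπ]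
    refine ⟨x⁻¹ * e * x, (hx _).2 (by simpa [mul_assoc] using he), ?_⟩
    rw [mul_smul, mul_smul, h, inv_smul_smul]
  have hpart : ∀ O, ∑ p ∈ fib O, f H φ x p
      = s O + s (xO O) + if O = O0 then f H φ x q0 else 0 := by
    intro O
    by_cases hO : O = O0
    · subst hO
      have h1 : fib O0 = {q0} := by ext p; simp [fib, hO0]
      have h2 : xO O0 = O0 := by
        show π (x • O0.out) = O0
        rw [(hO0 O0.out).1 (hπout O0), hq0 x hxH]
      simp [h1, h2, s]
    rw [if_neg hO, add_zero]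
    set q := O.out with hq
    have hqO : π q = O := hπout O
    have hqne : q ≠ q0 := fun h => hO (by rw [← hqO, h])
    have hxq : x • q ≠ q0 := fun h => hqne (by rw [← inv_smul_smul x q, h, hq0 _ (inv_mem hxH)])
    have hxO' : xO O ≠ O0 := fun h => hxq ((hO0 _).1 h)
    have hl := had q hqne
    have hl' := adm_conj H E φ hl hx
    have hsO : s O = ∑ p ∈ fib O, pot H E φ q (ad q) p := by
      show (if O = O0 then 0 else sg O.out (ad O.out)) = _
      rw [if_neg hO]
      show ∑ p ∈ fib (π q), _ = _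
      rw [hqO]
    have hsxO : s (xO O) = sg (x • q) (fun e => ad q (x⁻¹ * e * x)) := by
      show (if xO O = O0 then 0 else sg (xO O).out (ad (xO O).out)) = _
      rw [if_neg hxO']
      exact hsg (x • q) hxq _ _ _ (hπout _) hl' (had _ fun h => hxO' (by rw [← hπout (xO O), h]))
    have hbij : sg (x • q) (fun e => ad q (x⁻¹ * e * x))
        = ∑ p ∈ fib O, pot H E φ (x • q) (fun e => ad q (x⁻¹ * e * x)) (x • p) := by
      symm
      refine sum_equiv (MulAction.toPerm x) (fun p => ?_) (fun p _ => rfl)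
      simp only [fib, mem_filter, mem_univ, true_and, MulAction.toPerm_apply]
      refine ⟨fun h => hxπ p q (h.trans hqO.symm), fun h => ?_⟩
      obtain ⟨e, he, h⟩ := (hπ _ _).1 h
      rw [← hqO, hπ]
      refine ⟨x⁻¹ * e * x, (hx _).2 (by simpa [mul_assoc] using he), ?_⟩
      rw [mul_smul, mul_smul, h, inv_smul_smul]
    obtain ⟨k, hk1, hk⟩ := horb q hqne
    have heven : 2 ∣ (fib O).card := by rw [← hqO, hfibcard, hk]; exact dvd_pow_self 2 (by omega)
    rw [hsO, hsxO, hbij, ← sum_add_distrib, ← sum_add_const (fib O) heven (fun p => _ + _) (f H φ x q)]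
    refine sum_congr rfl fun p hp => ?_
    obtain ⟨e, he, rfl⟩ := (hπ p q).1 ((mem_filter.1 hp).2.trans hqO.symm)
    have e1 : x • e • q = (x * e * x⁻¹) • x • q := by rw [mul_smul, mul_smul, inv_smul_smul]
    rw [pot_eq H E φ hl he, e1, pot_eq H E φ hl' ((hx e).1 he)]
    have h2 : f H φ (x * e) q = f H φ ((x * e * x⁻¹) * x) q := by rw [inv_mul_cancel_right]
    rw [f_mul H φ x e q, f_mul H φ (x * e * x⁻¹) x q] at h2
    have hle : ad q (x⁻¹ * (x * e * x⁻¹) * x) = ad q e := by congr 1; group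
    rw [hle]
    exact zc _ _ _ _ _ h2
  refine Multiplicative.toAdd.injective ?_
  rw [transfer_eq, ← sum_fiberwise univ π (fun q => f H φ x q)]
  rw [sum_congr rfl fun O _ => hpart O, sum_add_distrib, sum_add_distrib, sum_ite_eq',
    if_pos (mem_univ _), Function.Bijective.sum_comp hxO s,
    zz, zero_add,
    f_stab H φ (g := 1) rfl (by simpa using hxH)]
  simp

end CfsgLib.OrbitTransfer
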