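import Mathlib
import Cfsg.Agent.Lib.OrbitTransfer.Basic
import Cfsg.Agent.Lib.PGroup.Extraspecial
import Cfsg.Agent.Lib.PCore.Basic
import Cfsg.Agent.Lib.Transfer.Basic

/-! Fusion of the central involution into a large extraspecial `O₂`, by pushing the transfer
cocycle forward along block systems. -/

namespace CfsgLib.OrbitTransfer

open Subgroup MulAction Finset
open scoped commutatorElement

variable {G : Type*} [Group G] {H : Subgroup G} (φ : ↥H →* Multiplicative (ZMod 2))

local notation "Ω" => G ⧸ H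

/-- The cocycle pushed forward to a block. -/
noncomputable def gsum (a : G) (s : Finset Ω) : ZMod 2 := ∑ p ∈ s, f H φ a p

/-- Translate of a block. -/
noncomputable def tr (a : G) (s : Finset Ω) : Finset Ω := by
  classical exact s.image (fun p => a • p)

theorem mem_tr {a : G} {s : Finset Ω} {p : Ω} : p ∈ tr a s ↔ a⁻¹ • p ∈ s := by
  classical
  simp only [tr, Finset.mem_image]
  exact ⟨fun ⟨q, hq, e⟩ => by rw [← e, inv_smul_smul]; exact hq, fun h => ⟨_, h, smul_inv_smul a p⟩⟩

theorem tr_mul (a b : G) (s : Finset Ω) : tr (a * b) s = tr a (tr b s) := by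
  ext p; simp only [mem_tr, mul_inv_rev, mul_smul]

theorem tr_one (s : Finset Ω) : tr 1 s = s := by ext p; simp [mem_tr]

theorem tr_inv_eq {a : G} {s : Finset Ω} (h : tr a s = s) : tr a⁻¹ s = s := by
  conv_lhs => rw [← h, ← tr_mul, inv_mul_cancel, tr_one]

theorem gsum_mul (a b : G) (s : Finset Ω) :
    gsum φ (a * b) s = gsum φ a (tr b s) + gsum φ b s := by
  classical
  simp only [gsum, f_mul, Finset.sum_add_distrib]
  congr 1
  rw [tr, Finset.sum_image fun x _ y _ h => smul_left_cancel b h]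

theorem gsum_mul_fix {a b : G} {s : Finset Ω} (hb : tr b s = s) :
    gsum φ (a * b) s = gsum φ a s + gsum φ b s := by rw [gsum_mul, hb]

theorem f_one (q : Ω) : f H φ 1 q = 0 := by
  have h := f_mul H φ 1 1 q
  rw [one_mul, one_smul] at h
  exact left_eq_add.1 h

theorem gsum_one (s : Finset Ω) : gsum φ 1 s = 0 :=
  Finset.sum_eq_zero fun p _ => f_one φ p

theorem zs : ∀ a b c d : ZMod 2, a + b = b + c → d + a = d + c := by decide

theorem zeq : ∀ a b c : ZMod 2, a + b = b + c → a = c := by decide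

/-- Passing from a block `s` to `s ∪ h s`. -/
theorem gsum_step {s t : Finset Ω} (h : G) (hts : ∀ a, gsum φ a t = gsum φ a s + gsum φ a (tr h s))
    (hh : tr (h * h) s = s) {n : G} (hnh : tr (h⁻¹ * n * h) s = s) :
    gsum φ n t = gsum φ (n * (h⁻¹ * n * h)) s ∧ gsum φ h t = gsum φ (h * h) s := by
  refine ⟨?_, ?_⟩
  · have h1 : gsum φ n (tr h s) + gsum φ h s = gsum φ h s + gsum φ (h⁻¹ * n * h) s := by
      rw [← gsum_mul, ← gsum_mul_fix φ hnh]; congr 1; group
    rw [hts, gsum_mul_fix φ hnh, zeq _ _ _ h1]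
  · rw [hts, gsum_mul, add_comm]

variable [Finite G]

open scoped Classical in
/-- The orbit of `q` under `K`, as a finset. -/
noncomputable def orb [Fintype Ω] (K : Subgroup G) (q : Ω) : Finset Ω :=
  univ.filter (fun p => ∃ k ∈ K, k • q = p)

omit [Finite G] in
theorem mem_orb [Fintype Ω] {K : Subgroup G} {q p : Ω} : p ∈ orb K q ↔ ∃ k ∈ K, k • q = p := by
  simp [orb]

omit [Finite G] in
theorem tr_orb [Fintype Ω] {K : Subgroup G} {q : Ω} {a : G} (ha : ∀ k, k ∈ K ↔ a * k * a⁻¹ ∈ K) :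
    tr a (orb K q) = orb K (a • q) := by
  ext p
  rw [mem_tr, mem_orb, mem_orb]
  constructor
  · rintro ⟨k, hk, e⟩
    exact ⟨a * k * a⁻¹, (ha k).1 hk, by rw [mul_smul, mul_smul, inv_smul_smul, e, smul_inv_smul]⟩
  · rintro ⟨k, hk, e⟩
    refine ⟨a⁻¹ * k * a, (ha _).2 (by simpa [mul_assoc] using hk), ?_⟩
    rw [mul_smul, mul_smul, e]

omit [Finite G] in
theorem orb_eq_of_mem [Fintype Ω] {K : Subgroup G} {q p : Ω} (h : p ∈ orb K q) : orb K p = orb K q := by
  obtain ⟨k, hk, rfl⟩ := mem_orb.1 h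
  ext r
  rw [mem_orb, mem_orb]
  exact ⟨fun ⟨j, hj, e⟩ => ⟨j * k, mul_mem hj hk, by rw [mul_smul, e]⟩,
    fun ⟨j, hj, e⟩ => ⟨j * k⁻¹, mul_mem hj (inv_mem hk), by rw [mul_smul, inv_smul_smul, e]⟩⟩

omit [Finite G] in
theorem orb_split [Fintype Ω] {K M : Subgroup G} {q : Ω} {h : G} (hMK : M ≤ K) (hhK : h ∈ K)
    (hhM : h ∉ M) (hsplit : ∀ k ∈ K, k ∈ M ∨ h⁻¹ * k ∈ M)
    (hM : ∀ k, k ∈ M ↔ h * k * h⁻¹ ∈ M) (hD : ∀ k ∈ K, k • q = q → k ∈ M) (a : G) :
    gsum φ a (orb K q) = gsum φ a (orb M q) + gsum φ a (tr h (orb M q)) := by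
  classical
  simp only [gsum]
  rw [← Finset.sum_union]
  · congr 1
    ext p
    rw [Finset.mem_union, mem_tr, mem_orb, mem_orb, mem_orb]
    constructor
    · rintro ⟨k, hk, e⟩
      rcases hsplit k hk with h1 | h1
      · exact Or.inl ⟨k, h1, e⟩
      · exact Or.inr ⟨h⁻¹ * k, h1, by rw [mul_smul, e]⟩
    · rintro (⟨k, hk, e⟩ | ⟨k, hk, e⟩)
      · exact ⟨k, hMK hk, e⟩
      · exact ⟨h * k, mul_mem hhK (hMK hk), by rw [mul_smul, e, smul_inv_smul]⟩
  · rw [Finset.disjoint_left]
    intro p hp hp'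
    rw [mem_tr, mem_orb] at hp'
    rw [mem_orb] at hp
    obtain ⟨k, hk, e⟩ := hp
    obtain ⟨j, hj, e'⟩ := hp'
    refine hhM ?_
    have : (k⁻¹ * (h * j)) • q = q := by rw [mul_smul, mul_smul, e', smul_inv_smul, ← e, inv_smul_smul]
    have := hD _ (mul_mem (inv_mem (hMK hk)) (mul_mem hhK (hMK hj))) this
    simpa [mul_assoc] using mul_mem (mul_mem hk this) (inv_mem hj)

/-- A subgroup of index two over `D` in `M`, when squares lie in `D`. -/
theorem exists_half {M D : Subgroup G} (hDM : D < M) (hsq : ∀ m ∈ M, m ^ 2 ∈ D)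
    (hcom : ∀ a ∈ M, ∀ b ∈ M, ⁅a, b⁆ ∈ D) :
    ∃ L : Subgroup G, D ≤ L ∧ L ≤ M ∧ ∃ h ∈ M, h ∉ L ∧ ∀ m ∈ M, m ∈ L ∨ h⁻¹ * m ∈ L := by
  obtain ⟨h, hhM, hhD⟩ := SetLike.exists_of_lt hDM
  obtain ⟨L, ⟨hDL, hLM, hhL⟩, hmax⟩ :=
    (Set.toFinite {L : Subgroup G | D ≤ L ∧ L ≤ M ∧ h ∉ L}).exists_maximal ⟨D, le_rfl, hDM.le, hhD⟩
  refine ⟨L, hDL, hLM, h, hhM, hhL, fun m hm => ?_⟩
  by_cases hmL : m ∈ L
  · exact Or.inl hmL
  right
  have hnormal : ∀ g ∈ M, ∀ l ∈ L, g * l * g⁻¹ ∈ L := fun g hg l hl => by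
    have := mul_mem (hDL (hcom g hg l (hLM hl))) hl
    simpa [commutatorElement_def] using this
  have hm2 : m * m ∈ L := hDL (by simpa [sq] using hsq m hm)
  -- `L ∪ m L` is a subgroup
  let L' : Subgroup G :=
    { carrier := {x | x ∈ L ∨ m⁻¹ * x ∈ L}
      one_mem' := Or.inl (one_mem _)
      mul_mem' := by
        intro a b ha hb
        have hc : ∀ l ∈ L, m⁻¹ * l * m ∈ L := fun l hl => by
          simpa using hnormal m⁻¹ (inv_mem hm) l hl
        rcases ha with ha | ha <;> rcases hb with hb | hb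
        · exact Or.inl (mul_mem ha hb)
        · right
          have := mul_mem (hc a ha) hb
          simpa [mul_assoc] using this
        · right
          have := mul_mem ha hb
          simpa [mul_assoc] using this
        · left
          have := mul_mem (mul_mem hm2 (hc _ ha)) hb
          simpa [mul_assoc] using this
      inv_mem' := by
        intro a ha
        rcases ha with ha | ha
        · exact Or.inl (inv_mem ha)
        · right
          have := mul_mem (inv_mem hm2) (hnormal m hm _ (inv_mem ha))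
          simpa [mul_assoc] using this }
  have hLL' : L ≤ L' := fun x hx => Or.inl hx
  have hmL' : m ∈ L' := Or.inr (by simp)
  have hhL' : h ∈ L' := by
    by_contra hh
    refine hmL (hmax (y := L') ⟨hDL.trans hLL', ?_, hh⟩ hLL' hmL')
    rintro x (hx | hx)
    · exact hLM hx
    · simpa using mul_mem hm (hLM hx)
  rcases hhL' with h1 | h1
  · exact absurd h1 hhL
  · simpa [mul_assoc] using inv_mem h1

/-- A subgroup of index two in `E` over `D`, normalised by a 2-element. -/
theorem exists_half_invariant {E D : Subgroup G} (hDE : D < E) (hsq : ∀ m ∈ E, m ^ 2 ∈ D)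
    (hcom : ∀ a ∈ E, ∀ b ∈ E, ⁅a, b⁆ ∈ D) {n : G} (hn : ∃ k, n ^ 2 ^ k = 1)
    (hnE : ∀ e, e ∈ E ↔ n * e * n⁻¹ ∈ E) (hnD : ∀ d, d ∈ D ↔ n * d * n⁻¹ ∈ D) :
    ∃ M : Subgroup G, D ≤ M ∧ M ≤ E ∧ (∀ d, d ∈ M ↔ n * d * n⁻¹ ∈ M) ∧
      ∃ h ∈ E, h ∉ M ∧ ∀ m ∈ E, m ∈ M ∨ h⁻¹ * m ∈ M := by
  classical
  obtain ⟨M, ⟨hDM, hMlt, hnM⟩, hmax⟩ :=
    (Set.toFinite {M : Subgroup G | D ≤ M ∧ M < E ∧ ∀ d, d ∈ M ↔ n * d * n⁻¹ ∈ M}).exists_maximal
      ⟨D, le_rfl, hDE, hnD⟩
  have hnormal : ∀ g ∈ E, ∀ l ∈ M, g * l * g⁻¹ ∈ M := fun g hg l hl => by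
    have := mul_mem (hDM (hcom g hg l (hMlt.le hl))) hl
    simpa [commutatorElement_def] using this
  let N : Subgroup E := M.subgroupOf E
  have hNn : N.Normal := ⟨fun x hx g => hnormal g g.2 x hx⟩
  have hsqN : ∀ y : E ⧸ N, y ^ 2 = 1 := by
    intro y
    obtain ⟨e, rfl⟩ := QuotientGroup.mk'_surjective N y
    rw [← map_pow]
    exact (QuotientGroup.eq_one_iff _).2 (hDM (hsq e e.2))
  let σ0 : E ≃* E :=
    { toFun := fun e => ⟨n * e * n⁻¹, (hnE e).1 e.2⟩
      invFun := fun e => ⟨n⁻¹ * e * n, (hnE _).2 (by simp [mul_assoc, e.2])⟩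
      left_inv := fun e => by ext; simp [mul_assoc]
      right_inv := fun e => by ext; simp [mul_assoc]
      map_mul' := fun a b => by ext; simp [mul_assoc] }
  have hσN : N.map σ0.toMonoidHom = N := by
    ext e
    constructor
    · rintro ⟨x, hx, rfl⟩; exact (hnM x).1 hx
    · intro he
      exact ⟨σ0.symm e, (hnM _).2 (by show n * (n⁻¹ * (e : G) * n) * n⁻¹ ∈ M; simpa [mul_assoc, N, mem_subgroupOf] using he),
        σ0.apply_symm_apply e⟩
  let σ : E ⧸ N ≃* E ⧸ N := QuotientGroup.congr N N σ0 hσN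
  have hσmk : ∀ e : E, σ (QuotientGroup.mk e) = QuotientGroup.mk (σ0 e) := fun e =>
    QuotientGroup.congr_mk N N σ0 hσN e
  obtain ⟨k, hk⟩ := hn
  have hσit : ∀ (j : ℕ) (e : E), (σ.toEquiv ^ j) (QuotientGroup.mk e)
      = QuotientGroup.mk ⟨n ^ j * e * (n ^ j)⁻¹, by
          induction j with
          | zero => simp
          | succ j ih => simpa [pow_succ', mul_assoc] using (hnE _).1 ih⟩ := by
    intro j
    induction j with
    | zero => intro e; simp
    | succ j ih =>
      intro e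
      rw [pow_succ', Equiv.Perm.mul_apply, ih]
      refine (hσmk _).trans (congrArg _ (Subtype.ext ?_))
      simp [σ0, pow_succ', mul_assoc]
  have : Fintype (E ⧸ N) := Fintype.ofFinite _
  have h2 : 2 ∣ Fintype.card (E ⧸ N) := by
    obtain ⟨e, heE, heM⟩ := SetLike.exists_of_lt hMlt
    have h1 : (QuotientGroup.mk ⟨e, heE⟩ : E ⧸ N) ≠ 1 := fun h =>
      heM (mem_subgroupOf.1 ((QuotientGroup.eq_one_iff _).1 h))
    have := orderOf_eq_prime (hsqN _) h1
    rw [← this]
    exact orderOf_dvd_card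
  obtain ⟨y, hy, hy1⟩ := Equiv.Perm.exists_fixed_point_of_prime' (p := 2) (n := k) h2 (σ := σ.toEquiv)
    (by
      ext y
      obtain ⟨e, rfl⟩ := QuotientGroup.mk'_surjective N y
      rw [QuotientGroup.mk'_apply, hσit, Equiv.Perm.one_apply]
      congr 1
      ext
      simp [hk]) (a := 1) (map_one σ)
  obtain ⟨⟨h, hhE⟩, rfl⟩ := QuotientGroup.mk'_surjective N y
  have hhM : h ∉ M := fun hh => hy1 ((QuotientGroup.eq_one_iff _).2 (mem_subgroupOf.2 hh))
  have hfix : h⁻¹ * (n * h * n⁻¹) ∈ M := by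
    have := QuotientGroup.eq.1 ((hσmk _).symm.trans hy).symm
    simpa [mem_subgroupOf, σ0, N] using this
  have hh2 : h * h ∈ M := hDM (by simpa [sq] using hsq h hhE)
  let M' : Subgroup G :=
    { carrier := {x | x ∈ M ∨ h⁻¹ * x ∈ M}
      one_mem' := Or.inl (one_mem _)
      mul_mem' := by
        intro a b ha hb
        have hc : ∀ l ∈ M, h⁻¹ * l * h ∈ M := fun l hl => by
          simpa using hnormal h⁻¹ (inv_mem hhE) l hl
        rcases ha with ha | ha <;> rcases hb with hb | hb
        · exact Or.inl (mul_mem ha hb)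
        · right
          have := mul_mem (hc a ha) hb
          simpa [mul_assoc] using this
        · right
          have := mul_mem ha hb
          simpa [mul_assoc] using this
        · left
          have := mul_mem (mul_mem hh2 (hc _ ha)) hb
          simpa [mul_assoc] using this
      inv_mem' := by
        intro a ha
        rcases ha with ha | ha
        · exact Or.inl (inv_mem ha)
        · right
          have := mul_mem (inv_mem hh2) (hnormal h hhE _ (inv_mem ha))
          simpa [mul_assoc] using this }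
  have hMM' : M ≤ M' := fun x hx => Or.inl hx
  have hM'E : M' ≤ E := by
    rintro x (hx | hx)
    · exact hMlt.le hx
    · simpa using mul_mem hhE (hMlt.le hx)
  have hnM' : ∀ d, d ∈ M' ↔ n * d * n⁻¹ ∈ M' := by
    intro d
    have e1 : h⁻¹ * (n * d * n⁻¹) = (h⁻¹ * (n * h * n⁻¹)) * (n * (h⁻¹ * d) * n⁻¹) := by group
    show d ∈ M ∨ h⁻¹ * d ∈ M ↔ n * d * n⁻¹ ∈ M ∨ h⁻¹ * (n * d * n⁻¹) ∈ M
    rw [e1, ← hnM d, Subgroup.mul_mem_cancel_left _ hfix, ← hnM]
  have htop : M' = E := by
    refine le_antisymm hM'E ?_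
    by_contra hne
    refine hhM (hmax (y := M') ⟨hDM.trans hMM', lt_of_le_not_ge hM'E hne, hnM'⟩ hMM' ?_)
    exact Or.inr (by simp)
  exact ⟨M, hDM, hMlt.le, hnM, h, hhE, hhM, fun m hm => (show m ∈ M' by rw [htop]; exact hm)⟩

theorem zsum : ∀ a : ZMod 2, a + a = 0 := by decide

theorem zsum3 : ∀ a b : ZMod 2, a + a + b = b := by decide

theorem m2_sq : ∀ a : Multiplicative (ZMod 2), a ^ 2 = 1 := by decide

/-- A subgroup with a transversal `{1, h}` has half the order. -/
theorem card_double {K M : Subgroup G} (hMK : M ≤ K) {h : G} (hhK : h ∈ K) (hhM : h ∉ M)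
    (hsplit : ∀ k ∈ K, k ∈ M ∨ h⁻¹ * k ∈ M) : Nat.card K = 2 * Nat.card M := by
  classical
  have hidx : (M.subgroupOf K).index = 2 := by
    rw [index_eq_two_iff_exists_notMem_and]
    refine ⟨⟨h, hhK⟩⁻¹, fun hh => hhM (by simpa [mem_subgroupOf] using hh), fun k => ?_⟩
    by_cases hk : (k : G) ∈ M
    · exact Or.inr (mem_subgroupOf.2 hk)
    · left
      rw [mem_subgroupOf]
      show (k : G) * h⁻¹ ∈ M
      by_contra hcon
      rcases hsplit ((k : G) * h⁻¹) (mul_mem k.2 (inv_mem hhK)) with h' | h'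
      · exact hcon h'
      · rcases hsplit (k : G) k.2 with h'' | h''
        · exact hk h''
        · have := mul_mem (inv_mem h'') h'
          refine hhM ?_
          have h3 := inv_mem this
          -- `h' = h⁻¹ k h⁻¹`
          simpa [mul_assoc] using h3
  rw [← Subgroup.card_mul_index (M.subgroupOf K), hidx,
    Nat.card_congr (Subgroup.subgroupOfEquivOfLe hMK).toEquiv, mul_comm]

theorem orb_card_even [Fintype Ω] {L : Subgroup G} (hL : IsPGroup 2 L) {q : Ω}
    (hne : ¬ ∀ l ∈ L, l • q = q) : 2 ∣ (orb L q).card := by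
  classical
  have : Fact (Nat.Prime 2) := ⟨Nat.prime_two⟩
  obtain ⟨k, hk⟩ := hL.card_orbit (α := Ω) q
  have e : (orb L q).card = Nat.card (orbit L q) := by
    rw [← Nat.card_eq_finsetCard]
    refine Nat.card_congr (Equiv.subtypeEquivRight fun p => ?_)
    rw [mem_orb]
    exact ⟨fun ⟨l, hl, h⟩ => ⟨⟨l, hl⟩, h⟩, fun ⟨l, h⟩ => ⟨l, l.2, h⟩⟩
  rw [e, hk]
  refine dvd_pow_self 2 ?_
  rintro rfl
  rw [pow_zero] at hk
  have hs := (Nat.card_eq_one_iff_unique.1 hk).1
  exact hne fun l hl => congrArg Subtype.val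
    (hs.elim ⟨l • q, ⟨⟨l, hl⟩, rfl⟩⟩ ⟨q, MulAction.mem_orbit_self q⟩)

/-- The cocycle vanishes on the stabiliser of an `E`-orbit. -/
theorem gsum_orbit_zero [Fintype Ω] {z : G} (hz2 : z * z = 1) {E : Subgroup G} (hE : IsPGroup 2 E)
    (hzE : z ∈ E) (hzc : ∀ e ∈ E, z * e = e * z)
    (hsq : ∀ e ∈ E, e ^ 2 ∈ zpowers z) (hcom : ∀ a ∈ E, ∀ b ∈ E, ⁅a, b⁆ ∈ zpowers z)
    {q : Ω} (S : Subgroup G) (hS : ∀ x, x ∈ S ↔ x ∈ E ∧ x • q = q)
    (hfour : 4 * Nat.card S ≤ Nat.card E)
    (height : (z • q ≠ q ∨ f H φ z q = 1) → 8 * Nat.card S ≤ Nat.card E)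
    {n : G} (hn : ∃ k, n ^ 2 ^ k = 1) (hnE : ∀ e, e ∈ E ↔ n * e * n⁻¹ ∈ E)
    (hnz : n * z = z * n) (hnq : n • q ∈ orb E q) : gsum φ n (orb E q) = 0 := by
  classical
  have hzcases : ∀ y ∈ zpowers z, y = 1 ∨ y = z := by
    intro y hy
    obtain ⟨i, rfl⟩ := hy
    have h2 : z ^ (2 : ℤ) = 1 := by rw [zpow_ofNat, sq]; exact hz2
    rcases Int.even_or_odd i with ⟨j, hj⟩ | ⟨j, hj⟩
    · left; show z ^ i = 1; rw [hj, ← two_mul, zpow_mul, h2, one_zpow]
    · right; show z ^ i = z; rw [hj, zpow_add, zpow_mul, h2, one_zpow, one_mul, zpow_one]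
  -- `D = S ⟨z⟩`
  let D : Subgroup G :=
    { carrier := {x | x ∈ S ∨ x * z ∈ S}
      one_mem' := Or.inl (one_mem _)
      mul_mem' := by
        intro a b ha hb
        rcases ha with ha | ha <;> rcases hb with hb | hb
        · exact Or.inl (mul_mem ha hb)
        · exact Or.inr (by simpa [mul_assoc] using mul_mem ha hb)
        · right
          have hbE : z * b = b * z := hzc b ((hS b).1 hb).1
          have := mul_mem ha hb
          rwa [mul_assoc, hbE, ← mul_assoc] at this
        · left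
          have hbE : z * (b * z) = (b * z) * z := hzc _ ((hS _).1 hb).1
          have := mul_mem ha hb
          rwa [mul_assoc, hbE, mul_assoc b, hz2, mul_one] at this
      inv_mem' := by
        intro a ha
        rcases ha with ha | ha
        · exact Or.inl (inv_mem ha)
        · right
          have hc : z * (a * z)⁻¹ = (a * z)⁻¹ * z := hzc _ (inv_mem ((hS _).1 ha).1)
          have h := inv_mem ha
          have e : a⁻¹ * z = (a * z)⁻¹ := by
            calc a⁻¹ * z = z * (a * z)⁻¹ * z := by group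
              _ = (a * z)⁻¹ * (z * z) := by rw [hc, mul_assoc]
              _ = (a * z)⁻¹ := by rw [hz2, mul_one]
          rw [e]; exact h }
  have hzD : z ∈ D := Or.inr (by rw [hz2]; exact one_mem _)
  have hSD : S ≤ D := fun x hx => Or.inl hx
  have hzD' : zpowers z ≤ D := zpowers_le.2 hzD
  have hDE : D ≤ E := by
    rintro x (hx | hx)
    · exact ((hS x).1 hx).1
    · simpa [mul_assoc, hz2] using mul_mem ((hS _).1 hx).1 hzE
  have hSpos := Nat.card_pos (α := S)
  have hDle : (z ∈ S → Nat.card D = Nat.card S) ∧ Nat.card D ≤ 2 * Nat.card S := by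
    by_cases hzS : z ∈ S
    · have : D = S := le_antisymm (fun x hx => by
        rcases hx with hx | hx
        · exact hx
        · simpa [mul_assoc, hz2] using mul_mem hx hzS) hSD
      exact ⟨fun _ => by rw [this], by rw [this]; omega⟩
    · refine ⟨fun h => absurd h hzS, le_of_eq (card_double hSD hzD hzS fun x hx => ?_)⟩
      rcases hx with hx | hx
      · exact Or.inl hx
      · right
        have hc := hzc x (hDE (show x ∈ D from Or.inr hx))
        rw [inv_eq_of_mul_eq_one_right hz2, hc]; exact hx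
  have hnormal : ∀ L : Subgroup G, z ∈ L → L ≤ E → ∀ g ∈ E, ∀ l, l ∈ L ↔ g * l * g⁻¹ ∈ L := by
    intro L hzL hLE g hg l
    have key : ∀ g ∈ E, ∀ l ∈ L, g * l * g⁻¹ ∈ L := fun g hg l hl => by
      have := mul_mem (zpowers_le.2 hzL (hcom g hg l (hLE hl))) hl
      simpa [commutatorElement_def] using this
    exact ⟨key g hg l, fun h => by simpa [mul_assoc] using key g⁻¹ (inv_mem hg) _ h⟩
  -- `n` normalises `D`
  obtain ⟨e0, he0, hne0⟩ := mem_orb.1 hnq
  have hm0q : (e0⁻¹ * n) • q = q := by rw [mul_smul, ← hne0, inv_smul_smul]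
  have hnD : ∀ d, d ∈ D ↔ n * d * n⁻¹ ∈ D := by
    intro d
    set m := e0⁻¹ * n with hm
    have hmE : ∀ e, e ∈ E ↔ m * e * m⁻¹ ∈ E := fun e => by
      rw [hnE e, show m * e * m⁻¹ = e0⁻¹ * (n * e * n⁻¹) * e0 by rw [hm]; group,
        Subgroup.mul_mem_cancel_right _ he0, Subgroup.mul_mem_cancel_left _ (inv_mem he0)]
    have hmS : ∀ x, x ∈ S ↔ m * x * m⁻¹ ∈ S := fun x => by
      rw [hS, hS, ← hmE x]
      refine and_congr_right fun _ => ?_
      rw [mul_smul, mul_smul, inv_smul_eq_iff.2 hm0q.symm, smul_eq_iff_eq_inv_smul m,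
        inv_smul_eq_iff.2 hm0q.symm]
    have hmz : m * z * m⁻¹ = z := by
      have h1 : e0⁻¹ * z = z * e0⁻¹ := (hzc _ (inv_mem he0)).symm
      calc m * z * m⁻¹ = e0⁻¹ * (n * z) * n⁻¹ * e0 := by rw [hm]; group
        _ = e0⁻¹ * z * e0 := by rw [hnz]; group
        _ = z := by rw [h1]; group
    have hmD : d ∈ D ↔ m * d * m⁻¹ ∈ D := by
      show d ∈ S ∨ d * z ∈ S ↔ m * d * m⁻¹ ∈ S ∨ m * d * m⁻¹ * z ∈ S
      have e : m * d * m⁻¹ * z = m * (d * z) * m⁻¹ := by
        conv_lhs => rw [← hmz]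
        group
      rw [e, hmS d, hmS (d * z)]
    rw [hmD, hnormal D hzD hDE e0 he0 (m * d * m⁻¹)]
    rw [show e0 * (m * d * m⁻¹) * e0⁻¹ = n * d * n⁻¹ by rw [hm]; group]
  have hDlt : D < E := lt_of_le_of_ne hDE fun e => by
    have := hDle.2
    rw [e] at this
    omega
  obtain ⟨M, hDM, hME, hnM, h, hhE, hhM, hsplit⟩ := exists_half_invariant hDlt
    (fun m hm => hzD' (hsq m hm)) (fun a ha b hb => hzD' (hcom a ha b hb)) hn hnE hnD
  have hEM := card_double hME hhE hhM hsplit
  have hbad : z • q ≠ q ∨ f H φ z q = 1 → 2 * Nat.card D ≤ Nat.card M := fun hb => by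
    have := height hb; have := hDle.2; omega
  have hgood : z • q = q → Nat.card D = Nat.card S := fun hzq => hDle.1 ((hS z).2 ⟨hzE, hzq⟩)
  have hDltM : D < M := lt_of_le_of_ne hDM fun e => by
    by_cases hb : z • q ≠ q ∨ f H φ z q = 1
    · have := hbad hb; rw [e] at this; have := Nat.card_pos (α := M); omega
    · push Not at hb
      have := hgood hb.1; rw [e] at this; omega
  obtain ⟨L, hDL, hLM, k, hkM, hkL, hsplit'⟩ := exists_half hDltM (fun m hm => hzD' (hsq m (hME hm)))
    (fun a ha b hb => hzD' (hcom a (hME ha) b (hME hb)))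
  have hML := card_double hLM hkM hkL hsplit'
  have hLE : L ≤ E := hLM.trans hME
  have hzL : z ∈ L := hDL hzD
  have hzM : z ∈ M := hLM hzL
  have hSL : ∀ e ∈ E, e • q = q → e ∈ L := fun e he h => hDL (hSD ((hS e).2 ⟨he, h⟩))
  -- `z` has trivial value on the smallest block
  have hzB : gsum φ z (orb L q) = 0 := by
    by_cases hzq : z • q = q
    · have hconst : ∀ p ∈ orb L q, f H φ z p = f H φ z q := by
        intro p hp
        obtain ⟨l, hl, rfl⟩ := mem_orb.1 hp
        have h1 := f_mul H φ z l q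
        rw [hzc l (hLE hl), f_mul H φ l z q, hzq, add_comm] at h1
        exact (add_right_cancel h1).symm
      show ∑ p ∈ orb L q, f H φ z p = 0
      rw [Finset.sum_congr rfl hconst, Finset.sum_const, nsmul_eq_mul]
      rcases z01 (f H φ z q) with h0 | h1
      · rw [h0, mul_zero]
      · have hne : ¬ ∀ l ∈ L, l • q = q := fun hall => by
          have hLS : L ≤ S := fun l hl => (hS l).2 ⟨hLE hl, hall l hl⟩
          have := Subgroup.card_le_of_le hLS
          have := height (Or.inr h1)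
          omega
        obtain ⟨j, hj⟩ := orb_card_even (hE.to_le hLE) hne
        rw [hj, Nat.cast_mul, show ((2 : ℕ) : ZMod 2) = 0 from rfl, zero_mul, zero_mul]
    · refine Finset.sum_involution (fun p _ => z • p) (fun p _ => ?_) (fun p hp _ => ?_) (fun p hp => ?_)
        (fun p _ => by rw [← mul_smul, hz2, one_smul])
      · rw [add_comm, ← f_mul, hz2, f_one]
      · intro hpe
        obtain ⟨l, hl, rfl⟩ := mem_orb.1 hp
        refine hzq (smul_left_cancel l ?_)
        rw [← mul_smul, ← hzc l (hLE hl), mul_smul]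
        exact hpe
      · obtain ⟨l, hl, rfl⟩ := mem_orb.1 hp
        exact mem_orb.2 ⟨z * l, mul_mem hzL hl, mul_smul z l q⟩
  have hcB : ∀ c ∈ zpowers z, gsum φ c (orb L q) = 0 := fun c hc => by
    rcases hzcases c hc with rfl | rfl
    · exact gsum_one φ _
    · exact hzB
  have htrL : ∀ l ∈ L, tr l (orb L q) = orb L q := fun l hl => by
    rw [tr_orb fun x => hnormal L hzL hLE l (hLE hl) x]
    exact orb_eq_of_mem (mem_orb.2 ⟨l, hl, rfl⟩)
  have htrM : ∀ l ∈ M, tr l (orb M q) = orb M q := fun l hl => by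
    rw [tr_orb fun x => hnormal M hzM hME l (hME hl) x]
    exact orb_eq_of_mem (mem_orb.2 ⟨l, hl, rfl⟩)
  -- the cocycle is trivial on `M` for the middle block
  have hsum1 := orb_split φ hLM hkM hkL hsplit' (fun x => hnormal L hzL hLE k (hME hkM) x)
    (fun x hx hxq => hSL x (hME hx) hxq)
  have hkk : k * k ∈ zpowers z := by simpa [sq] using hsq k (hME hkM)
  have hconjL : ∀ m ∈ L, k⁻¹ * m * k ∈ L := fun m hm => by
    simpa using (hnormal L hzL hLE k⁻¹ (inv_mem (hME hkM)) m).1 hm
  have hmL : ∀ m ∈ L, gsum φ m (orb M q) = 0 := by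
    intro m hm
    obtain ⟨h1, -⟩ := gsum_step φ (n := m) k hsum1 (htrL _ (zpowers_le.2 hzL hkk)) (htrL _ (hconjL m hm))
    rw [h1]
    refine hcB _ ?_
    have e : m * (k⁻¹ * m * k) = m ^ 2 * ⁅m⁻¹, k⁻¹⁆ := by rw [commutatorElement_def, sq]; group
    rw [e]
    exact mul_mem (hsq m (hLE hm)) (hcom _ (inv_mem (hLE hm)) _ (inv_mem (hME hkM)))
  have hkB : gsum φ k (orb M q) = 0 := by
    obtain ⟨-, h2⟩ := gsum_step φ (n := (1 : G)) k hsum1 (htrL _ (zpowers_le.2 hzL hkk))
      (by rw [show k⁻¹ * 1 * k = 1 by group, tr_one])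
    rw [h2]
    exact hcB _ hkk
  have hM0 : ∀ m ∈ M, gsum φ m (orb M q) = 0 := by
    intro m hm
    rcases hsplit' m hm with h1 | h1
    · exact hmL m h1
    · rw [show m = k * (k⁻¹ * m) by group, gsum_mul_fix φ (htrM _ (hLM h1)), hkB, hmL _ h1, add_zero]
  -- the top block
  have hsum2 := orb_split φ hME hhE hhM hsplit (fun x => hnormal M hzM hME h hhE x)
    (fun x hx hxq => hLM (hSL x hx hxq))
  have hhh : h * h ∈ M := zpowers_le.2 hzM (by simpa [sq] using hsq h hhE)
  have hfixcase : ∀ n : G, (∀ e, e ∈ E ↔ n * e * n⁻¹ ∈ E) → (∀ d, d ∈ M ↔ n * d * n⁻¹ ∈ M) →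
      n • q ∈ orb M q → gsum φ n (orb E q) = 0 := by
    intro n hnE hnM hnq
    have htn : tr n (orb M q) = orb M q := by rw [tr_orb hnM]; exact orb_eq_of_mem hnq
    have hnh : (n * h * n⁻¹) ∈ E ∧ n * h * n⁻¹ ∉ M :=
      ⟨(hnE h).1 hhE, fun hh => hhM ((hnM h).2 hh)⟩
    -- `n` fixes the second block
    have htn' : tr (h⁻¹ * n * h) (orb M q) = orb M q := by
      have e : h⁻¹ * n * h = (h⁻¹ * (n * h * n⁻¹)) * n := by group
      rw [e, tr_mul, htn, htrM]
      rcases hsplit _ hnh.1 with h' | h'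
      · exact absurd h' hnh.2
      · exact h'
    obtain ⟨h1, -⟩ := gsum_step φ (n := n) h hsum2 (htrM _ hhh) htn'
    rw [h1]
    set c := n⁻¹ * (h⁻¹ * n * h) with hc
    have hcE : c ∈ E := by
      have e : c = (n⁻¹ * h⁻¹ * n) * h := by rw [hc]; group
      rw [e]
      refine mul_mem ?_ hhE
      exact (hnE _).2 (by simpa [mul_assoc] using inv_mem hhE)
    have hcM : c ∈ M := by
      have hcq : c • q ∈ orb M q := by
        have ht : tr c (orb M q) = orb M q := by rw [hc, tr_mul, htn', tr_inv_eq htn]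
        rw [← ht, mem_tr, inv_smul_smul]
        exact mem_orb.2 ⟨1, one_mem _, one_smul _ _⟩
      obtain ⟨m, hm, e⟩ := mem_orb.1 hcq
      have : m⁻¹ * c ∈ L := hSL _ (mul_mem (inv_mem (hME hm)) hcE) (by rw [mul_smul, ← e, inv_smul_smul])
      simpa using mul_mem hm (hLM this)
    have e : n * (h⁻¹ * n * h) = n * n * c := by rw [hc]; group
    rw [e, gsum_mul_fix φ (htrM c hcM), gsum_mul_fix φ htn, hM0 c hcM, add_zero, zsum]
  by_cases hnb : n • q ∈ orb M q
  · exact hfixcase n hnE hnM hnb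
  · obtain ⟨e, he, heq⟩ := mem_orb.1 hnq
    have heM : e ∉ M := fun hh => hnb (mem_orb.2 ⟨e, hh, heq⟩)
    have hem := (hsplit e he).resolve_left heM
    have hn'E : ∀ x, x ∈ E ↔ h⁻¹ * n * x * (h⁻¹ * n)⁻¹ ∈ E := fun x => by
      rw [hnE x, show h⁻¹ * n * x * (h⁻¹ * n)⁻¹ = h⁻¹ * (n * x * n⁻¹) * h by group,
        Subgroup.mul_mem_cancel_right _ hhE, Subgroup.mul_mem_cancel_left _ (inv_mem hhE)]
    have hn'M : ∀ x, x ∈ M ↔ h⁻¹ * n * x * (h⁻¹ * n)⁻¹ ∈ M := fun x => by
      rw [hnM x, hnormal M hzM hME h⁻¹ (inv_mem hhE) (n * x * n⁻¹)]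
      rw [show h⁻¹ * n * x * (h⁻¹ * n)⁻¹ = h⁻¹ * (n * x * n⁻¹) * h⁻¹⁻¹ by group]
    have hn'q : (h⁻¹ * n) • q ∈ orb M q := mem_orb.2 ⟨h⁻¹ * e, hem, by rw [mul_smul, heq, ← mul_smul]⟩
    have h0 := hfixcase _ hn'E hn'M hn'q
    have htO : tr (h⁻¹ * n) (orb E q) = orb E q := by
      rw [tr_orb hn'E]
      refine orb_eq_of_mem ?_
      obtain ⟨m, hm, e'⟩ := mem_orb.1 hn'q
      exact mem_orb.2 ⟨m, hME hm, e'⟩
    rw [show n = h * (h⁻¹ * n) by group, gsum_mul_fix φ htO, h0, add_zero]
    obtain ⟨-, h2⟩ := gsum_step φ (n := (1 : G)) h hsum2 (htrM _ hhh)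
      (by rw [show h⁻¹ * 1 * h = 1 by group, tr_one])
    rw [h2]
    exact hM0 _ hhh

open scoped Classical in
/-- Transfer is trivial off the base point when the cocycle kills all orbit stabilisers in `N`. -/
theorem transfer_eq_of_orbits [Fintype Ω] {E N : Subgroup G} (hEH : E ≤ H) (hEN : E ≤ N)
    (hNH : N ≤ H) (hnorm : ∀ n ∈ N, ∀ e, e ∈ E ↔ n * e * n⁻¹ ∈ E) {x : G} (hx : x ∈ N)
    (hzero : ∀ q : Ω, q ≠ ((1 : G) : Ω) → ∀ n ∈ N, n • q ∈ orb E q → gsum φ n (orb E q) = 0) :
    φ.transfer x = φ ⟨x, hNH hx⟩ := by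
  let q0 : Ω := ((1 : G) : Ω)
  have hq0 : ∀ a ∈ H, a • q0 = q0 := fun a ha => by
    show ((a * 1 : G) : Ω) = ((1 : G) : Ω)
    rw [QuotientGroup.eq]; simpa using inv_mem ha
  let rep : Ω → Ω := fun q => (Quotient.mk (MulAction.orbitRel N Ω) q).out
  have hrep : ∀ q, ∃ n ∈ N, n • rep q = q := fun q => by
    obtain ⟨n, hn⟩ := Quotient.mk_out (s := MulAction.orbitRel N Ω) q
    exact ⟨(n⁻¹ : N), (n⁻¹).2, by
      show ((n⁻¹ : N) : G) • rep q = q
      rw [Subgroup.coe_inv, inv_smul_eq_iff]; exact hn.symm⟩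
  have hrep' : ∀ q, ∀ n ∈ N, rep (n • q) = rep q := fun q n hn => by
    show (Quotient.mk _ (n • q)).out = (Quotient.mk _ q).out
    congr 1
    exact Quotient.sound ⟨⟨n, hn⟩, rfl⟩
  let P : Ω → ZMod 2 := fun q =>
    if q = q0 then 0 else gsum φ (hrep q).choose (orb E (rep q))
  have hne : ∀ q, q ≠ q0 → ∀ n ∈ N, n • q ≠ q0 := fun q hq n hn h =>
    hq (by rw [← inv_smul_smul n q, h, hq0 _ (inv_mem (hNH hn))])
  have hP : ∀ q, q ≠ q0 → ∀ n ∈ N, n • rep q ∈ orb E q → P q = gsum φ n (orb E (rep q)) := by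
    intro q hq n hn hnq
    set m := (hrep q).choose with hm
    obtain ⟨hmN, hmq⟩ : m ∈ N ∧ m • rep q = q := (hrep q).choose_spec
    have hR : rep q ≠ q0 := fun h => hne (rep q) (fun h' => hq (by rw [← hmq, h', hq0 _ (hNH hmN)]))
      1 (one_mem _) (by rw [one_smul]; exact h)
    show (if q = q0 then 0 else gsum φ m (orb E (rep q))) = _
    rw [if_neg hq]
    obtain ⟨e, he, heq⟩ := mem_orb.1 hnq
    have hmn : m⁻¹ * n ∈ N := mul_mem (inv_mem hmN) hn
    have hmem : (m⁻¹ * n) • rep q ∈ orb E (rep q) := by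
      refine mem_orb.2 ⟨m⁻¹ * e * m, (hnorm m hmN _).2 (by simpa [mul_assoc] using he), ?_⟩
      rw [mul_smul, mul_smul, hmq, heq, mul_smul]
    rw [show n = m * (m⁻¹ * n) by group, gsum_mul_fix φ
      (by rw [tr_orb (hnorm _ hmn)]; exact orb_eq_of_mem hmem), hzero _ hR _ hmn hmem, add_zero]
  let Orb := Quotient (MulAction.orbitRel E Ω)
  let π : Ω → Orb := fun q => Quotient.mk _ q
  have : Finite Orb := Quotient.finite _
  let _ : Fintype Orb := Fintype.ofFinite Orb
  have hπ : ∀ p q, π p = π q ↔ p ∈ orb E q := by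
    intro p q
    show Quotient.mk _ p = Quotient.mk _ q ↔ _
    rw [Quotient.eq, mem_orb]
    show p ∈ MulAction.orbit E q ↔ _
    exact ⟨fun ⟨e, he⟩ => ⟨e, e.2, he⟩, fun ⟨e, he, h⟩ => ⟨⟨e, he⟩, h⟩⟩
  have hπout : ∀ O : Orb, π O.out = O := fun O => Quotient.out_eq O
  let xO : Orb → Orb := fun O => π (x • O.out)
  have htx : ∀ q : G ⧸ H, tr x (orb E q) = orb E (x • q) := fun q => tr_orb (q := q) (hnorm x hx)
  have hxO : Function.Bijective xO := by
    refine (Finite.injective_iff_bijective).1 fun O O' h => ?_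
    have h' := (hπ _ _).1 h
    rw [← htx, mem_tr, inv_smul_smul] at h'
    rw [← hπout O, ← hπout O', hπ]; exact h'
  let O0 := π q0
  have hO0 : ∀ p, π p = O0 ↔ p = q0 := fun p => by
    rw [hπ, mem_orb]
    exact ⟨fun ⟨e, he, h⟩ => h ▸ hq0 e (hEH he), fun h => ⟨1, one_mem _, by rw [one_smul, h]⟩⟩
  have hPorb : ∀ q p, p ∈ orb E q → P p = P q := by
    intro q p hp
    by_cases hq : q = q0
    · subst hq
      rw [(hO0 p).1 ((hπ p q0).2 hp)]
    obtain ⟨e, he, rfl⟩ := mem_orb.1 hp
    have hne' := hne q hq e (hEN he)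
    obtain ⟨m, hm, hmq⟩ := hrep (e • q)
    rw [hP _ hne' m hm (by rw [hmq]; exact mem_orb.2 ⟨1, one_mem _, one_smul _ _⟩),
      hP q hq m hm (by rw [← hrep' q e (hEN he), hmq]; exact hp), hrep' q e (hEN he)]
  have hpart : ∀ O : Orb, ∑ p ∈ Finset.univ.filter (fun p => π p = O), f H φ x p
      = P O.out + P ((xO O).out) + if O = O0 then f H φ x q0 else 0 := by
    intro O
    have hfib : Finset.univ.filter (fun p => π p = O) = orb E O.out := by
      ext p
      rw [Finset.mem_filter, ← hπ, hπout]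
      simp
    rw [hfib]
    by_cases hO : O = O0
    · subst hO
      have h1 : O0.out = q0 := (hO0 _).1 (hπout O0)
      have h2 : xO O0 = O0 := by show π (x • O0.out) = O0; rw [h1, hq0 x (hNH hx)]
      have h3 : orb E q0 = {q0} := by ext p; rw [← hπ, Finset.mem_singleton]; exact hO0 p
      rw [h2, h1, h3, if_pos rfl, Finset.sum_singleton, zsum, zero_add]
    rw [if_neg hO, add_zero]
    have hq : O.out ≠ q0 := fun h => hO (by rw [← hπout O, h])
    have h4 : P (xO O).out = P (x • O.out) := hPorb _ _ ((hπ _ _).1 (hπout _))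
    obtain ⟨n, hn, hnq⟩ := hrep O.out
    have hself : ∀ p : Ω, p ∈ orb E p := fun p => mem_orb.2 ⟨1, one_mem _, one_smul _ _⟩
    rw [h4, hP _ hq n hn (by rw [hnq]; exact hself _), hP _ (hne _ hq x hx) (x * n) (mul_mem hx hn)
      (by rw [hrep' _ x hx, mul_smul, hnq]; exact hself _), hrep' _ x hx, gsum_mul,
      tr_orb (hnorm n hn), hnq]
    show gsum φ x (orb E O.out) = _
    exact (show ∀ a b : ZMod 2, a = b + (a + b) from fun a b => by
      rw [add_comm a b, ← add_assoc, zsum, zero_add]) _ _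
  refine Multiplicative.toAdd.injective ?_
  rw [transfer_eq, ← sum_fiberwise univ π (fun q => f H φ x q)]
  rw [sum_congr rfl fun O _ => hpart O, sum_add_distrib, sum_add_distrib, sum_ite_eq',
    if_pos (mem_univ _), Function.Bijective.sum_comp hxO (fun O => P O.out),
    zsum, zero_add, f_stab H φ (g := 1) rfl (by simpa using hNH hx)]
  simp

/-- The central involution is fused into `E ∖ {z}` when `C(z)` has a subgroup of index two. -/
theorem exists_fused {G : Type*} [Group G] [Finite G] (hres : Cfsg.pResidual 2 G = ⊤) (z : G)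
    (hz : orderOf z = 2) (E : Subgroup G) (hEH : E ≤ centralizer ({z} : Set G)) (hzE : z ∈ E)
    (hEn : ∀ x ∈ centralizer ({z} : Set G), ∀ e ∈ E, x * e * x⁻¹ ∈ E)
    (hext : Cfsg.IsExtraspecial 2 ↥E) (hcent : centralizer (E : Set G) ≤ E) (w : ℕ) (hw : 3 ≤ w)
    (hcard : Nat.card ↥E = 2 ^ (2 * w + 1))
    (φ : ↥(centralizer ({z} : Set G)) →* Multiplicative (ZMod 2)) (hsur : ∃ x, φ x ≠ 1) :
    ∃ g : G, g * z * g⁻¹ ∈ E ∧ g * z * g⁻¹ ≠ z := by
  classical
  have : Fact (Nat.Prime 2) := ⟨Nat.prime_two⟩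
  by_contra hcon
  push Not at hcon
  revert φ
  set H := centralizer ({z} : Set G) with hH
  intro φ hsur
  have hz1 : z ≠ 1 := fun e => by simp [e] at hz
  have hz2 : z * z = 1 := by rw [← sq]; exact hz ▸ pow_orderOf_eq_one z
  have hzH : z ∈ H := hEH hzE
  have hzc : (⟨z, hzE⟩ : E) ∈ center E := by
    rw [mem_center_iff]
    intro g
    exact Subtype.ext (mem_centralizer_singleton_iff.1 (hEH g.2))
  have hZ : zpowers (⟨z, hzE⟩ : E) = center E :=
    CfsgLib.PGroup.extraspecial_zpowers_eq_center hext hzc (fun e => hz1 (congrArg Subtype.val e))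
  have hzcases : ∀ y ∈ zpowers z, y = 1 ∨ y = z := by
    intro y hy
    obtain ⟨i, rfl⟩ := hy
    have h2 : z ^ (2 : ℤ) = 1 := by rw [zpow_ofNat, sq]; exact hz2
    rcases Int.even_or_odd i with ⟨j, hj⟩ | ⟨j, hj⟩
    · left; show z ^ i = 1; rw [hj, ← two_mul, zpow_mul, h2, one_zpow]
    · right; show z ^ i = z; rw [hj, zpow_add, zpow_mul, h2, one_zpow, one_mul, zpow_one]
  have hcen : ∀ y (hy : y ∈ E), (⟨y, hy⟩ : E) ∈ center E → y ∈ zpowers z := by
    intro y hy h
    rw [← hZ] at h
    obtain ⟨i, hi⟩ := h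
    exact ⟨i, congrArg Subtype.val hi⟩
  have hEsq : ∀ y ∈ E, y ^ 2 ∈ zpowers z := fun y hy =>
    hcen _ (pow_mem hy 2) (CfsgLib.PGroup.extraspecial_pow_mem_center hext ⟨y, hy⟩)
  have hEcom : ∀ a ∈ E, ∀ b ∈ E, ⁅a, b⁆ ∈ zpowers z := fun a ha b hb =>
    hcen _ (mul_mem (mul_mem (mul_mem ha hb) (inv_mem ha)) (inv_mem hb))
      (CfsgLib.PGroup.extraspecial_comm_mem_center hext ⟨a, ha⟩ ⟨b, hb⟩)
  have hzcomm : ∀ a ∈ H, z * a = a * z := fun a ha => (mem_centralizer_singleton_iff.1 ha).symm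
  have hfix : ∀ g : G, (∀ e ∈ E, g⁻¹ * e * g ∈ H) → g ∈ H := by
    intro g hg
    have hu : g * z * g⁻¹ ∈ centralizer (E : Set G) := by
      rw [mem_centralizer_iff]
      intro e he
      have := hzcomm _ (hg e he)
      calc e * (g * z * g⁻¹) = g * ((g⁻¹ * e * g) * z) * g⁻¹ := by group
        _ = g * (z * (g⁻¹ * e * g)) * g⁻¹ := by rw [this]
        _ = g * z * g⁻¹ * e := by group
    rw [hH, mem_centralizer_singleton_iff]
    calc g * z = g * z * g⁻¹ * g := by group
      _ = z * g := by rw [hcon g (hcent hu)]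
  -- a 2-element outside the kernel
  obtain ⟨x0, hx0⟩ := hsur
  obtain ⟨r, m, hm, hord⟩ := Nat.exists_eq_two_pow_mul_odd (orderOf_pos x0).ne'
  set x : H := x0 ^ m with hxdef
  have hxord : (x : G) ^ 2 ^ r = 1 := by
    have : x ^ 2 ^ r = 1 := by rw [hxdef, ← pow_mul, mul_comm, ← hord, pow_orderOf_eq_one]
    simpa using congrArg Subtype.val this
  have hall : ∀ a : Multiplicative (ZMod 2), a ≠ 1 → ∀ j, Odd j → a ^ j = a := by
    intro a _ j hj
    obtain ⟨i, rfl⟩ := hj
    have h2 : a ^ 2 = 1 := m2_sq a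
    rw [pow_add, pow_mul, h2, one_pow, one_mul, pow_one]
  have hx : φ x ≠ 1 := by rw [hxdef, map_pow, hall _ hx0 m hm]; exact hx0
  have hEp : IsPGroup 2 E := hext.1.1
  have hxp : IsPGroup 2 (zpowers (x : G)) := by
    obtain ⟨j, -, hj⟩ := (Nat.dvd_prime_pow Nat.prime_two).1 (orderOf_dvd_of_pow_eq_one hxord)
    exact IsPGroup.of_card (n := j) (by rw [Nat.card_zpowers, hj])
  have hEnorm : H ≤ normalizer (E : Set G) := fun a ha => by
    rw [mem_normalizer_iff]
    exact fun e => ⟨hEn a ha e, fun h => by simpa [mul_assoc] using hEn a⁻¹ (inv_mem ha) _ h⟩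
  set N := E ⊔ zpowers (x : G) with hN
  have hNp : IsPGroup 2 N := hEp.to_sup_of_normal_left' hxp (zpowers_le.2 (hEnorm x.2))
  have hNH : N ≤ H := sup_le hEH (zpowers_le.2 x.2)
  let _ : Fintype (G ⧸ H) := Fintype.ofFinite _
  have hmain := transfer_eq_of_orbits φ (E := E) (N := N) hEH le_sup_left hNH
    (fun n hn e => mem_normalizer_iff.1 (hEnorm (hNH hn)) e) (x := (x : G))
    (mem_sup_right (mem_zpowers _)) ?_
  · have htriv : φ.transfer (x : G) = 1 := by
      have h := CfsgLib.Transfer.pResidual_le_ker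
        (IsPGroup.of_card (p := 2) (n := 1) (G := Multiplicative (ZMod 2)) (by simp)) φ.transfer
      rw [hres] at h
      exact h (mem_top _)
    rw [htriv] at hmain
    exact hx hmain.symm
  intro q hq n hn hnq
  induction q using QuotientGroup.induction_on with
  | H g =>
  have hgH : g ∉ H := fun h => hq (QuotientGroup.eq.2 (by simpa using inv_mem h))
  have hD : ∀ e : G, e • (g : G ⧸ H) = g ↔ g⁻¹ * e * g ∈ H := fun e => by
    rw [show e • (g : G ⧸ H) = ((e * g : G) : G ⧸ H) from rfl, QuotientGroup.eq]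
    constructor
    · intro h; simpa [mul_assoc] using inv_mem h
    · intro h; simpa [mul_assoc] using inv_mem h
  let S : Subgroup G := E ⊓ MulAction.stabilizer G (g : G ⧸ H)
  have hS : ∀ y, y ∈ S ↔ y ∈ E ∧ y • (g : G ⧸ H) = g := fun y => Iff.rfl
  have hSE : S ≤ E := inf_le_left
  have habel : (z • (g : G ⧸ H) ≠ g ∨ f H φ z (g : G ⧸ H) = 1) → ∀ a ∈ S, ∀ b ∈ S, a * b = b * a := by
    intro hb a ha b hb'
    rw [← commutatorElement_eq_one_iff_mul_comm]
    refine (hzcases _ (hEcom a (hSE ha) b (hSE hb'))).resolve_right fun h => ?_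
    have hzS : z ∈ S := h ▸ (by
      simpa [commutatorElement_def] using mul_mem (mul_mem (mul_mem ha hb') (inv_mem ha)) (inv_mem hb'))
    rcases hb with hb | hb
    · exact hb ((hS z).1 hzS).2
    · have ha' := (hD a).1 ((hS a).1 ha).2
      have hb'' := (hD b).1 ((hS b).1 hb').2
      have hzg := (hD z).1 ((hS z).1 hzS).2
      rw [f_stab H φ rfl hzg] at hb
      have e : (⟨g⁻¹ * z * g, hzg⟩ : H) = ⁅(⟨_, ha'⟩ : H), ⟨_, hb''⟩⁆ := by
        ext
        simp only [commutatorElement_def, Subgroup.coe_mul, Subgroup.coe_inv]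
        rw [commutatorElement_def] at h
        rw [← h]; group
      rw [e, map_commutatorElement, commutatorElement_eq_one_iff_mul_comm.2 (mul_comm _ _)] at hb
      simp at hb
  have height : (z • (g : G ⧸ H) ≠ g ∨ f H φ z (g : G ⧸ H) = 1) → 8 * Nat.card S ≤ Nat.card E := by
    intro hb
    have hab := habel hb
    have h1 := CfsgLib.PGroup.extraspecial_abelian_card hext (S.subgroupOf E)
      ⟨⟨fun a b => Subtype.ext (Subtype.ext (hab _ a.2 _ b.2))⟩⟩
    rw [Nat.card_congr (Subgroup.subgroupOfEquivOfLe hSE).toEquiv, hcard] at h1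
    have h2 : Nat.card S * Nat.card S ≤ 2 ^ (w + 1) * 2 ^ (w + 1) :=
      h1.trans (le_of_eq (by ring))
    have h3 : Nat.card S ≤ 2 ^ (w + 1) := Nat.mul_self_le_mul_self_iff.1 h2
    rw [hcard]
    calc 8 * Nat.card S ≤ 2 ^ 3 * 2 ^ (w + 1) := by omega
      _ = 2 ^ (3 + (w + 1)) := by rw [← pow_add]
      _ ≤ 2 ^ (2 * w + 1) := Nat.pow_le_pow_right (by norm_num) (by omega)
  have hfour : 4 * Nat.card S ≤ Nat.card E := by
    have hmul := Subgroup.card_mul_index (S.subgroupOf E)
    rw [Nat.card_congr (Subgroup.subgroupOfEquivOfLe hSE).toEquiv] at hmul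
    obtain ⟨j, hj⟩ := hEp.index (S.subgroupOf E)
    rcases j with _ | _ | j
    · exfalso
      rw [pow_zero, Subgroup.index_eq_one, subgroupOf_eq_top] at hj
      exact hgH (hfix g fun e he => (hD e).1 ((hS e).1 (hj he)).2)
    · exfalso
      rw [pow_one] at hj
      set z' := g * z * g⁻¹ with hz'
      have hz'c : ∀ e, g⁻¹ * e * g ∈ H ↔ z' * e = e * z' := fun e => by
        rw [hH, mem_centralizer_singleton_iff, hz']
        constructor
        · intro h
          calc g * z * g⁻¹ * e = g * (z * (g⁻¹ * e * g)) * g⁻¹ := by group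
            _ = g * ((g⁻¹ * e * g) * z) * g⁻¹ := by rw [h]
            _ = e * (g * z * g⁻¹) := by group
        · intro h
          calc g⁻¹ * e * g * z = g⁻¹ * (e * (g * z * g⁻¹)) * g := by group
            _ = g⁻¹ * ((g * z * g⁻¹) * e) * g := by rw [h]
            _ = z * (g⁻¹ * e * g) := by group
      have hSc : ∀ s ∈ S, z' * s = s * z' := fun s hs => (hz'c s).1 ((hD s).1 ((hS s).1 hs).2)
      have hSmem : ∀ e ∈ E, z' * e = e * z' → e ∈ S := fun e he h =>
        (hS e).2 ⟨he, (hD e).2 ((hz'c e).2 h)⟩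
      obtain ⟨e, hab⟩ := index_eq_two_iff_exists_notMem_and.1 hj
      obtain ⟨e, he⟩ := e
      have heS : e ∉ S := hab.1
      have hpair : ∀ y ∈ E, y ∈ S ∨ y * e ∈ S := fun y hy => (hab.2 ⟨y, hy⟩).symm
      have hzS : z ∈ S := by
        by_contra hzS
        -- then `E` would be abelian
        have hne := CfsgLib.PGroup.extraspecial_not_isMulCommutative hext
        refine hne ⟨⟨fun a b => ?_⟩⟩
        have hn : (S.subgroupOf E).Normal := normal_of_index_eq_two hj
        haveI := isCyclic_of_prime_card (p := 2) (α := E ⧸ S.subgroupOf E) (by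
          rw [← Subgroup.index_eq_card]; exact hj)
        have hc : commutator E ≤ S.subgroupOf E :=
          (Normal.quotient_commutative_iff_commutator_le (N := S.subgroupOf E)).1 IsCyclic.isMulCommutative
        have h1 : ⁅(a : G), (b : G)⁆ ∈ S := hc (commutator_mem_commutator (mem_top a) (mem_top b))
        refine Subtype.ext (commutatorElement_eq_one_iff_mul_comm.1 ?_)
        exact (hzcases _ (hEcom _ a.2 _ b.2)).resolve_right fun h => hzS (h ▸ h1)
      have hz'H : z' ∈ H := by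
        rw [hH, mem_centralizer_singleton_iff]
        exact hSc z hzS
      have hz'2 : z' * z' = 1 := by
        rw [hz', show g * z * g⁻¹ * (g * z * g⁻¹) = g * (z * z) * g⁻¹ by group, hz2]; group
      -- an element of `S` inducing the same automorphism
      obtain ⟨v, hv, hvz, hvS⟩ : ∃ v ∈ S, v ∉ zpowers z ∧ ∀ s ∈ S, s * v = v * s := by
        by_contra hno
        push Not at hno
        have hzSub : center E ≤ S.subgroupOf E := by
          rw [← hZ, zpowers_le]; exact hzS
        obtain ⟨⟨j', hj'⟩, -⟩ := CfsgLib.PGroup.extraspecial_subgroup_card hext (S.subgroupOf E)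
          (fun v hv hcomm => by
            rw [← hZ]
            have hvz : (v : G) ∈ zpowers z := by
              by_contra hvz
              obtain ⟨s, hs, hne⟩ := hno v hv hvz
              exact hne (congrArg Subtype.val (hcomm ⟨s, hSE hs⟩ hs))
            obtain ⟨i, hi⟩ := hvz
            exact ⟨i, Subtype.ext hi⟩) hzSub
        rw [Nat.card_congr (Subgroup.subgroupOfEquivOfLe hSE).toEquiv] at hj'
        rw [hj', hj, hcard, ← pow_succ] at hmul
        have := Nat.pow_right_injective (le_refl 2) hmul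
        omega
      have hEdec : ∀ y ∈ E, y ∈ S ∨ ∃ s ∈ S, y = s * e⁻¹ := fun y hy =>
        (hpair y hy).imp_right fun h => ⟨y * e, h, by group⟩
      have hve : ⁅v, e⁆ = z := (hzcases _ (hEcom v (hSE hv) e he)).resolve_left fun h => by
        have hve' : v * e = e * v := commutatorElement_eq_one_iff_mul_comm.1 h
        refine hvz (hcen v (hSE hv) ?_)
        rw [mem_center_iff]
        rintro ⟨y, hy⟩
        refine Subtype.ext ?_
        show y * v = v * y
        rcases hEdec y hy with hy' | ⟨s, hs, rfl⟩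
        · exact hvS y hy'
        · exact ((show Commute s v from hvS s hs).mul_left
            (show Commute e v from hve'.symm).inv_left).eq
      -- `z' e z'⁻¹ = e t` with `t ∈ S` an involution centralising `S` and `e`
      set e' := z' * e * z'⁻¹ with he'def
      have he' : e' ∈ E := hEn z' hz'H e he
      have he'S : e' ∉ S := fun h => heS (hSmem e he (by
        have := hSc _ h
        calc z' * e = e' * z' := by rw [he'def]; group
          _ = z' * e' := this.symm
          _ = (z' * z') * e * z'⁻¹ := by rw [he'def]; group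
          _ = e * z' := by rw [hz'2, one_mul, inv_eq_of_mul_eq_one_right hz'2]))
      have hzS' : ∀ y ∈ zpowers z, y ∈ S := fun y hy => zpowers_le.2 hzS hy
      have htS : e⁻¹ * e' ∈ S := by
        rcases hEdec _ (mul_mem (inv_mem he) he') with h | ⟨s, hs, h⟩
        · exact h
        · exfalso
          refine he'S ?_
          have h2 : e' = e * s * e⁻¹ := by rw [mul_assoc, ← h]; group
          have hcm : ⁅e, s⁆ ∈ S := hzS' _ (hEcom e he s (hSE hs))
          have := mul_mem hcm hs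
          rw [h2]
          simpa [commutatorElement_def] using this
      set t := e⁻¹ * e' with ht
      have hze : z' * e = e * t * z' := by rw [ht, he'def]; group
      have ht2 : t * t = 1 := by
        have h : (z' * z') * e = e * (t * t) * (z' * z') := by
          calc (z' * z') * e = z' * (z' * e) := mul_assoc _ _ _
            _ = (z' * e) * t * z' := by
              rw [show z' * (z' * e) = z' * (e * t * z') from congrArg (z' * ·) hze]; group
            _ = e * t * (z' * t) * z' := by rw [hze]; group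
            _ = e * t * (t * z') * z' := by rw [hSc t htS]
            _ = _ := by group
        rw [hz'2, one_mul, mul_one] at h
        exact mul_eq_left.1 h.symm
      have ht1 : t ≠ 1 := fun h => heS (hSmem e he (by rw [hze, h, mul_one]))
      have hte : t * e = e * t := by
        -- `(e t)² = e²` as squares are central
        have he2 : z' * (e * e) = (e * e) * z' := by
          rcases hzcases _ (by simpa [sq] using hEsq e he) with h | h <;> rw [h]
          · simp
          · exact hSc z hzS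
        have h : (e * t) * (e * t) = e * e := by
          calc (e * t) * (e * t) = (z' * e * z'⁻¹) * (z' * e * z'⁻¹) := by
                rw [show e * t = z' * e * z'⁻¹ by rw [hze]; group]
            _ = z' * (e * e) * z'⁻¹ := by group
            _ = e * e := by rw [he2]; group
        have h' : t * e * t = e := by
          have := congrArg (e⁻¹ * ·) h
          simpa [mul_assoc] using this
        calc t * e = (t * e * t) * t⁻¹ := by group
          _ = e * t := by rw [h', inv_eq_of_mul_eq_one_right ht2]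
      have hts : ∀ s ∈ S, t * s = s * t := by
        intro s hs
        -- `[e', s] = [e, s]`
        have hc : ⁅e', s⁆ = ⁅e, s⁆ := by
          have h1 : ⁅e', s⁆ = z' * ⁅e, s⁆ * z'⁻¹ := by
            have hs' : z' * s * z'⁻¹ = s := by rw [hSc s hs]; group
            conv_lhs => rw [← hs', he'def]
            simp only [commutatorElement_def]
            group
          rw [h1]
          rcases hzcases _ (hEcom e he s (hSE hs)) with h | h <;> rw [h]
          · group
          · rw [hSc z hzS]; group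
        have h1 : e' = e * t := by rw [ht]; group
        rw [h1, commutatorElement_def, commutatorElement_def] at hc
        have h3 : e * (t * s * t⁻¹) * e⁻¹ = e * s * e⁻¹ := by
          have h4 := congrArg (· * s) hc
          calc e * (t * s * t⁻¹) * e⁻¹ = e * t * s * (e * t)⁻¹ * s⁻¹ * s := by group
            _ = e * s * e⁻¹ * s⁻¹ * s := h4
            _ = e * s * e⁻¹ := by group
        have h5 : t * s * t⁻¹ = s := mul_left_cancel (mul_right_cancel h3)
        calc t * s = t * s * t⁻¹ * t := by group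
          _ = s * t := by rw [h5]
      have htz : t = z := by
        refine (hzcases t (hcen t (hSE htS) ?_)).resolve_left ht1
        rw [mem_center_iff]
        rintro ⟨y, hy⟩
        refine Subtype.ext ?_
        show y * t = t * y
        rcases hEdec y hy with hy' | ⟨s, hs, rfl⟩
        · exact (hts y hy').symm
        · exact ((show Commute s t from (hts s hs).symm).mul_left
            (show Commute e t from hte.symm).inv_left).eq
      have hve2 : v * e = z * (e * v) := by rw [← hve, commutatorElement_def]; group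
      have hwe : Commute (v * z') e := by
        show v * z' * e = e * (v * z')
        have hzz : ∀ y ∈ E, z * y = y * z := fun y hy => hzcomm y (hEH hy)
        calc v * z' * e = v * e * z * z' := by rw [mul_assoc, hze, htz]; group
          _ = z * (e * v * z) * z' := by rw [hve2]; group
          _ = z * (z * (e * v)) * z' := by rw [hzz (e * v) (mul_mem he (hSE hv))]
          _ = e * (v * z') := by rw [← mul_assoc z z, hz2, one_mul]; group
      have hws : ∀ s ∈ S, Commute (v * z') s := fun s hs =>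
        (show Commute v s from (hvS s hs).symm).mul_left (hSc s hs)
      have hw : v * z' ∈ centralizer (E : Set G) := by
        rw [mem_centralizer_iff]
        intro y hy
        rcases hEdec y hy with hy' | ⟨s, hs, rfl⟩
        · exact (hws y hy').eq.symm
        · exact ((hws s hs).mul_right hwe.inv_right).eq.symm
      have hz'E : z' ∈ E := by
        have := mul_mem (inv_mem (hSE hv)) (hcent hw)
        simpa using this
      refine hgH ?_
      rw [hH, mem_centralizer_singleton_iff]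
      calc g * z = z' * g := by rw [hz']; group
        _ = z * g := by rw [hz', hcon g hz'E]
    · rw [hj] at hmul
      have : 4 ≤ 2 ^ (j + 1 + 1) := by
        calc 4 = 2 ^ 2 := by norm_num
          _ ≤ _ := Nat.pow_le_pow_right (by norm_num) (by omega)
      calc 4 * Nat.card S ≤ 2 ^ (j + 1 + 1) * Nat.card S := Nat.mul_le_mul_right _ this
        _ = Nat.card E := by rw [mul_comm]; exact hmul
  obtain ⟨k, hk⟩ := hNp ⟨n, hn⟩
  exact gsum_orbit_zero φ hz2 hEp hzE (fun e he => hzcomm e (hEH he)) hEsq hEcom S hS hfour height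
    ⟨k, by simpa using congrArg Subtype.val hk⟩ (fun e => mem_normalizer_iff.1 (hEnorm (hNH hn)) e)
    (hzcomm n (hNH hn)).symm hnq

end CfsgLib.OrbitTransfer
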