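import Mathlib
import Cfsg.Agent.Lib.OrbitTransfer.Basic
import Cfsg.Agent.Lib.PGroup.Extraspecial
import Cfsg.Agent.Lib.PCore.Basic
import Cfsg.Agent.Lib.Transfer.Basic

/-! Transfer out of an involution centralizer with extraspecial `O₂`. -/

namespace CfsgLib.OrbitTransfer

open Subgroup MulAction
open scoped commutatorElement

/-- A subgroup with a ±-character killing `z` extends the character to the extraspecial group. -/
theorem exists_extend {P : Type*} [Group P] [Finite P] {z : P}
    (hsq : ∀ y : P, y ^ 2 ∈ zpowers z) (D : Subgroup P) (δ : ↥D →* Multiplicative (ZMod 2))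
    (hδz : ∀ h : z ∈ D, δ ⟨z, h⟩ = 1) (hz2 : z ^ 2 = 1) :
    ∃ l : P → ZMod 2, (∀ a b, l (a * b) = l a + l b) ∧
      ∀ d : D, l d = Multiplicative.toAdd (δ d) := by
  classical
  by_cases htriv : ∀ d, δ d = 1
  · exact ⟨fun _ => 0, by simp, fun d => by simp [htriv d]⟩
  push Not at htriv
  obtain ⟨d0, hd0⟩ := htriv
  have hmu : ∀ a : Multiplicative (ZMod 2), a ≠ 1 → a = Multiplicative.ofAdd 1 := by decide
  set K : Subgroup P := δ.ker.map D.subtype ⊔ zpowers z with hK
  have hd0K : (d0 : P) ∉ K := by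
    intro hmem
    have hzc : ∀ k ∈ δ.ker.map D.subtype, ∀ i : ℤ, (d0 : P) ≠ k * z ^ i := by
      rintro _ ⟨k, hk, rfl⟩ i he
      have hzi : z ^ i ∈ D := by
        have := mul_mem (inv_mem k.2) d0.2
        rwa [he, Subgroup.coe_subtype, inv_mul_cancel_left] at this
      have h1 : δ ⟨z ^ i, hzi⟩ = 1 := by
        rcases Int.even_or_odd i with ⟨j, hj⟩ | ⟨j, hj⟩
        · have : z ^ i = 1 := by rw [hj, ← two_mul, zpow_mul, zpow_ofNat, hz2, one_zpow]
          simp [this]
          exact map_one δ
        · have e : z ^ i = z := by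
            rw [hj, zpow_add, zpow_mul, zpow_ofNat, hz2, one_zpow, one_mul, zpow_one]
          have hzD : z ∈ D := e ▸ hzi
          rw [show (⟨z ^ i, hzi⟩ : D) = ⟨z, hzD⟩ from Subtype.ext e]
          exact hδz hzD
      refine hd0 ?_
      rw [show d0 = k * ⟨z ^ i, hzi⟩ from Subtype.ext he, map_mul, hk, h1, one_mul]
    have hn : (zpowers z).Normal := ⟨fun x hx g => by
      -- `zpowers z` contains all commutators
      have hc : ∀ a b : P, ⁅a, b⁆ ∈ zpowers z := fun a b => by
        have e : ⁅a, b⁆ = (a * b) ^ 2 * (b⁻¹ * a⁻¹ * b) ^ 2 * b⁻¹ ^ 2 := by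
          simp only [commutatorElement_def, sq]; group
        rw [e]; exact mul_mem (mul_mem (hsq _) (hsq _)) (hsq _)
      have := mul_mem (hc g x) hx
      simpa [commutatorElement_def] using this⟩
    rw [hK] at hmem
    obtain ⟨k, hk, w, ⟨i, rfl⟩, he⟩ := Subgroup.mem_sup_of_normal_right.1 hmem
    exact hzc k hk i he.symm
  -- a maximal subgroup over `K` missing `d0`
  obtain ⟨M, ⟨hKM, hd0M⟩, hmax⟩ := (Set.toFinite {M : Subgroup P | K ≤ M ∧ (d0 : P) ∉ M}).exists_maximal
    ⟨K, le_rfl, hd0K⟩
  have hsqM : ∀ y, y ^ 2 ∈ M := fun y => hKM (mem_sup_right (hsq y))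
  have hcomM : ∀ a b : P, ⁅a, b⁆ ∈ M := fun a b => by
    have e : ⁅a, b⁆ = (a * b) ^ 2 * (b⁻¹ * a⁻¹ * b) ^ 2 * b⁻¹ ^ 2 := by
      simp only [commutatorElement_def, sq]; group
    rw [e]; exact mul_mem (mul_mem (hsqM _) (hsqM _)) (hsqM _)
  have hMn : M.Normal := ⟨fun x hx g => by
    have := mul_mem (hcomM g x) hx
    simpa [commutatorElement_def] using this⟩
  have hidx : M.index = 2 := by
    rw [index_eq_two_iff_exists_notMem_and]
    refine ⟨d0, hd0M, fun y => ?_⟩
    by_cases hy : y ∈ M
    · exact Or.inr hy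
    left
    by_contra hyd
    have hlt : M < M ⊔ zpowers y := lt_of_le_of_ne le_sup_left fun e => hy (e ▸ mem_sup_right (mem_zpowers y))
    have hd : (d0 : P) ∈ M ⊔ zpowers y := by
      by_contra h
      exact (hlt.not_ge (hmax (y := M ⊔ zpowers y) ⟨hKM.trans le_sup_left, h⟩ le_sup_left))
    obtain ⟨m, hm, w, ⟨i, rfl⟩, he⟩ := Subgroup.mem_sup_of_normal_left.1 hd
    rcases Int.even_or_odd i with ⟨j, hj⟩ | ⟨j, hj⟩
    · refine hd0M (he ▸ mul_mem hm ?_)
      show y ^ i ∈ M
      rw [hj, ← two_mul, zpow_mul, zpow_ofNat]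
      exact zpow_mem (hsqM y) j
    · refine hyd ?_
      have e : y * (d0 : P) = (y * m * y⁻¹) * (y ^ 2) ^ (j + 1) := by
        rw [← he]
        show y * (m * y ^ i) = y * m * y⁻¹ * (y ^ 2) ^ (j + 1)
        rw [hj, ← zpow_natCast y 2, ← zpow_mul]
        simp only [mul_assoc]
        rw [← zpow_neg_one, ← zpow_add]
        congr 3
        push_cast
        ring
      rw [e]
      exact mul_mem (hMn.conj_mem m hm y) (zpow_mem (hsqM y) _)
  refine ⟨fun y => if y ∈ M then 0 else 1, fun a b => ?_, fun d => ?_⟩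
  · have := mul_mem_iff_of_index_two hidx (a := a) (b := b)
    by_cases ha : a ∈ M <;> by_cases hb : b ∈ M <;> simp [ha, hb] at this ⊢ <;> simp [this] <;> decide
  · have hker : ∀ k : D, δ k = 1 → (k : P) ∈ M := fun k hk => hKM (mem_sup_left ⟨k, hk, rfl⟩)
    by_cases hd : δ d = 1
    · simp [hker d hd, hd]
    · have h1 : (d : P) ∉ M := fun h => hd0M (by
        have := hker (d⁻¹ * d0) (by rw [map_mul, map_inv, hmu _ hd, hmu _ hd0, inv_mul_cancel])
        simpa using mul_mem h this)
      simp [h1, hmu _ hd]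

/-- Reduction `ℤ/4 → ℤ/2`. -/
def c42 : Multiplicative (ZMod 4) →* Multiplicative (ZMod 2) :=
  (ZMod.castHom (show 2 ∣ 4 by norm_num) (ZMod 2)).toAddMonoidHom.toMultiplicative

theorem c42_of_sq : ∀ a : Multiplicative (ZMod 4), a ^ 2 = 1 → c42 a = 1 := by decide

theorem c42_sq : ∀ a : Multiplicative (ZMod 4), c42 a ≠ 1 → a ^ 2 ≠ 1 := by decide

theorem c42_one : c42 (Multiplicative.ofAdd 1) ≠ 1 := by decide

/-- The core computation: a character of `C(z)` to a cyclic group of order four forces a
subgroup of index two. -/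
theorem no_char_four {G : Type*} [Group G] [Finite G] (hres : Cfsg.pResidual 2 G = ⊤) (z : G)
    (hz : orderOf z = 2) (E : Subgroup G) (hEH : E ≤ centralizer ({z} : Set G)) (hzE : z ∈ E)
    (hEn : ∀ x ∈ centralizer ({z} : Set G), ∀ e ∈ E, x * e * x⁻¹ ∈ E)
    (hext : Cfsg.IsExtraspecial 2 ↥E) (hcent : centralizer (E : Set G) ≤ E)
    (ψ : ↥(centralizer ({z} : Set G)) →* Multiplicative (ZMod 4)) : ¬ Function.Surjective ψ := by
  classical
  have : Fact (Nat.Prime 2) := ⟨Nat.prime_two⟩
  revert ψ
  set H := centralizer ({z} : Set G) with hH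
  intro ψ hsur
  have hz1 : z ≠ 1 := fun e => by simp [e] at hz
  have hz2 : z ^ 2 = 1 := hz ▸ pow_orderOf_eq_one z
  have hzc : (⟨z, hzE⟩ : E) ∈ center E := by
    rw [mem_center_iff]
    intro g
    exact Subtype.ext (mem_centralizer_singleton_iff.1 (hEH g.2))
  have hZ : zpowers (⟨z, hzE⟩ : E) = center E :=
    CfsgLib.PGroup.extraspecial_zpowers_eq_center hext hzc (fun e => hz1 (congrArg Subtype.val e))
  have hzcases : ∀ y ∈ zpowers z, y = 1 ∨ y = z := by
    intro y hy
    obtain ⟨i, rfl⟩ := hy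
    rcases Int.even_or_odd i with ⟨j, hj⟩ | ⟨j, hj⟩
    · left; show z ^ i = 1; rw [hj, ← two_mul, zpow_mul, zpow_ofNat, hz2, one_zpow]
    · right; show z ^ i = z; rw [hj, zpow_add, zpow_mul, zpow_ofNat, hz2, one_zpow, one_mul, zpow_one]
  have hcen : ∀ y (hy : y ∈ E), (⟨y, hy⟩ : E) ∈ center E → y ∈ zpowers z := by
    intro y hy h
    rw [← hZ] at h
    obtain ⟨i, hi⟩ := h
    exact ⟨i, congrArg Subtype.val hi⟩
  have hEsq : ∀ y ∈ E, y ^ 2 ∈ zpowers z := fun y hy =>
    hcen _ (pow_mem hy 2) (CfsgLib.PGroup.extraspecial_pow_mem_center hext ⟨y, hy⟩)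
  have hEcom : ∀ a ∈ E, ∀ b ∈ E, ⁅a, b⁆ ∈ zpowers z := fun a ha b hb =>
    hcen _ (mul_mem (mul_mem (mul_mem ha hb) (inv_mem ha)) (inv_mem hb))
      (CfsgLib.PGroup.extraspecial_comm_mem_center hext ⟨a, ha⟩ ⟨b, hb⟩)
  -- the fixed point is unique
  have hfix : ∀ g : G, (∀ e ∈ E, g⁻¹ * e * g ∈ H) → g ∈ H := by
    intro g hg
    have hu : g * z * g⁻¹ ∈ centralizer (E : Set G) := by
      rw [mem_centralizer_iff]
      intro e he
      have := mem_centralizer_singleton_iff.1 (hg e he)
      calc e * (g * z * g⁻¹) = g * ((g⁻¹ * e * g) * z) * g⁻¹ := by group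
        _ = g * (z * (g⁻¹ * e * g)) * g⁻¹ := by rw [this]
        _ = g * z * g⁻¹ * e := by group
    have huE := hcent hu
    have huc : (⟨_, huE⟩ : E) ∈ center E := by
      rw [mem_center_iff]
      intro e
      exact Subtype.ext (mem_centralizer_iff.1 hu e e.2)
    rcases hzcases _ (hcen _ huE huc) with h | h
    · exact absurd (conj_eq_one_iff.1 h) hz1
    · rw [hH, mem_centralizer_singleton_iff]
      calc g * z = g * z * g⁻¹ * g := by group
        _ = z * g := by rw [h]
  let φ : ↥H →* Multiplicative (ZMod 2) := c42.comp ψ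
  have h4 := c42_of_sq
  have h4' := c42_sq
  have hinv : ∀ u : H, (u : G) ^ 2 = 1 → φ u = 1 := fun u hu =>
    h4 _ (by rw [← map_pow, show u ^ 2 = 1 from Subtype.ext hu, map_one])
  -- every coset off the base point has an admissible character
  have hadm : ∀ q : G ⧸ H, q ≠ ((1 : G) : G ⧸ H) → ∃ l, Adm H E φ q l := by
    intro q hq
    induction q using QuotientGroup.induction_on with
    | H g =>
    have hgH : g ∉ H := fun h => hq (QuotientGroup.eq.2 (by simpa using inv_mem h))
    have hD : ∀ e : G, e • (g : G ⧸ H) = g ↔ g⁻¹ * e * g ∈ H := fun e => by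
      rw [show e • (g : G ⧸ H) = ((e * g : G) : G ⧸ H) from rfl, QuotientGroup.eq]
      constructor
      · intro h; simpa [mul_assoc] using inv_mem h
      · intro h; simpa [mul_assoc] using inv_mem h
    have hstab : ∀ (e : G) (h : g⁻¹ * e * g ∈ H),
        f H φ e (g : G ⧸ H) = Multiplicative.toAdd (φ ⟨g⁻¹ * e * g, h⟩) := fun e h => f_stab H φ rfl h
    by_cases htwo : Nat.card (orbit E (g : G ⧸ H)) = 2
    · refine ⟨fun _ => 0, fun _ _ _ _ => by simp, fun d hd hdq => ?_, fun _ _ _ => rfl⟩
      have hdH := (hD d).1 hdq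
      rw [hstab d hdH]
      by_contra hne
      have hφd : φ ⟨_, hdH⟩ ≠ 1 := fun e => hne (by rw [e]; rfl)
      have hd2 : d ^ 2 = z := by
        refine (hzcases _ (hEsq d hd)).resolve_left fun h => hφd (hinv _ ?_)
        show (g⁻¹ * d * g) ^ 2 = 1
        rw [show g⁻¹ * d * g = g⁻¹ * d * g⁻¹⁻¹ by rw [inv_inv], conj_pow, h]; group
      have hu : ψ ⟨_, hdH⟩ ^ 2 ≠ 1 := h4' _ hφd
      -- the stabiliser
      let D : Subgroup G := E ⊓ (H.map (MulAut.conj g).toMonoidHom)
      have hDmem : ∀ e, e ∈ D ↔ e ∈ E ∧ g⁻¹ * e * g ∈ H := fun e => by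
        show e ∈ E ∧ e ∈ H.map (MulAut.conj g).toMonoidHom ↔ _
        refine and_congr_right fun _ => ⟨?_, fun h => ⟨_, h, by simp [mul_assoc]⟩⟩
        rintro ⟨k, hk, rfl⟩
        simpa [mul_assoc] using hk
      have hzD : z ∈ D := by rw [← hd2]; exact pow_mem ((hDmem d).2 ⟨hd, hdH⟩) 2
      have hDcomm : ∀ a ∈ D, ∀ b ∈ D, a * b = b * a := by
        intro a ha b hb
        rw [← commutatorElement_eq_one_iff_mul_comm]
        refine (hzcases _ (hEcom a ((hDmem a).1 ha).1 b ((hDmem b).1 hb).1)).resolve_right fun h => hu ?_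
        obtain ⟨ha', hb'⟩ := And.intro ((hDmem a).1 ha).2 ((hDmem b).1 hb).2
        have e : (⟨_, hdH⟩ : H) ^ 2 = ⁅(⟨_, ha'⟩ : H), ⟨_, hb'⟩⁆ := by
          ext
          simp only [SubgroupClass.coe_pow, commutatorElement_def, coe_mul, coe_inv]
          rw [commutatorElement_def] at h
          calc (g⁻¹ * d * g) ^ 2 = g⁻¹ * d ^ 2 * g := by simp [sq, mul_assoc]
            _ = g⁻¹ * (a * b * a⁻¹ * b⁻¹) * g := by rw [hd2, h]
            _ = _ := by group
        rw [← map_pow, e, map_commutatorElement, commutatorElement_eq_one_iff_mul_comm]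
        exact mul_comm _ _
      -- `z' = g z g⁻¹`
      set z' := g * z * g⁻¹ with hz'
      have hz'c : ∀ e, g⁻¹ * e * g ∈ H ↔ z' * e = e * z' := fun e => by
        rw [hH, mem_centralizer_singleton_iff, hz']
        constructor
        · intro h
          calc g * z * g⁻¹ * e = g * (z * (g⁻¹ * e * g)) * g⁻¹ := by group
            _ = g * ((g⁻¹ * e * g) * z) * g⁻¹ := by rw [h]
            _ = e * (g * z * g⁻¹) := by group
        · intro h
          calc g⁻¹ * e * g * z = g⁻¹ * (e * (g * z * g⁻¹)) * g := by group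
            _ = g⁻¹ * ((g * z * g⁻¹) * e) * g := by rw [h]
            _ = z * (g⁻¹ * e * g) := by group
      have hz'H : z' ∈ H := by
        rw [hH, mem_centralizer_singleton_iff]
        exact (hz'c z).1 ((hDmem z).1 hzD).2
      have hz'2 : z' * z' = 1 := by rw [hz', show g * z * g⁻¹ * (g * z * g⁻¹) = g * (z ^ 2) * g⁻¹ by rw [sq]; group, hz2]; group
      obtain ⟨e, he, heD⟩ : ∃ e ∈ E, g⁻¹ * e * g ∉ H := by
        by_contra h; push Not at h; exact hgH (hfix g h)
      -- two cosets of the stabiliser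
      have hsplit : ∀ y ∈ E, y ∈ D ∨ e⁻¹ * y ∈ D := by
        intro y hy
        by_cases hyD : g⁻¹ * y * g ∈ H
        · exact Or.inl ((hDmem y).2 ⟨hy, hyD⟩)
        right
        refine (hDmem _).2 ⟨mul_mem (inv_mem he) hy, (hD _).1 ?_⟩
        rw [mul_smul, inv_smul_eq_iff]
        have : Finite (orbit E (g : G ⧸ H)) := Nat.finite_of_card_ne_zero (by omega)
        obtain ⟨p, r, hpr, huniv⟩ := Nat.card_eq_two_iff.1 htwo
        have hmem : ∀ w : orbit E (g : G ⧸ H), w = p ∨ w = r := fun w => by
          simpa using (huniv.symm ▸ Set.mem_univ w : w ∈ ({p, r} : Set _))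
        have key : ∀ a b : orbit E (g : G ⧸ H), a ≠ ⟨_, MulAction.mem_orbit_self _⟩ →
            b ≠ ⟨_, MulAction.mem_orbit_self _⟩ → a = b := by
          intro a b ha hb
          rcases hmem a with rfl | rfl <;> rcases hmem b with rfl | rfl <;>
            rcases hmem ⟨_, MulAction.mem_orbit_self (g : G ⧸ H)⟩ with h | h <;>
            first | rfl | exact absurd h.symm ha | exact absurd h.symm hb
        exact congrArg Subtype.val (key ⟨y • _, ⟨⟨y, hy⟩, rfl⟩⟩ ⟨e • _, ⟨⟨e, he⟩, rfl⟩⟩
          (fun h => hyD ((hD y).1 (congrArg Subtype.val h)))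
          (fun h => heD ((hD e).1 (congrArg Subtype.val h))))
      have hecom : ∀ t ∈ D, t * e = e * t → t ∈ zpowers z := by
        intro t ht hte
        refine hcen t ((hDmem t).1 ht).1 ?_
        rw [mem_center_iff]
        rintro ⟨y, hy⟩
        refine Subtype.ext ?_
        show y * t = t * y
        rcases hsplit y hy with hy' | hy'
        · exact hDcomm y hy' t ht
        · calc y * t = e * ((e⁻¹ * y) * t) := by group
            _ = e * (t * (e⁻¹ * y)) := by rw [hDcomm _ hy' t ht]
            _ = e * t * (e⁻¹ * y) := by group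
            _ = t * e * (e⁻¹ * y) := by rw [hte]
            _ = t * y := by group
      have hdD : d ∈ D := (hDmem d).2 ⟨hd, hdH⟩
      have hde : ⁅d, e⁆ = z := (hzcases _ (hEcom d hd e he)).resolve_left fun h => by
        rcases hzcases d (hecom d hdD (commutatorElement_eq_one_iff_mul_comm.1 h)) with h' | h'
        · rw [h', one_pow] at hd2; exact hz1 hd2.symm
        · rw [h', hz2] at hd2; exact hz1 hd2.symm
      have hDd : ∀ t ∈ D, t ∈ zpowers d := by
        intro t ht
        have hzd : ∀ y ∈ zpowers z, y ∈ zpowers d := fun y hy =>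
          zpowers_le.2 (show z ∈ zpowers d from hd2 ▸ pow_mem (mem_zpowers d) 2) hy
        rcases hzcases _ (hEcom t ((hDmem t).1 ht).1 e he) with h | h
        · exact hzd _ (hecom t ht (commutatorElement_eq_one_iff_mul_comm.1 h))
        · -- `t * d` commutes with `e`
          have hz'' : ∀ a : G, a ∈ E → a * z = z * a := fun a ha => mem_centralizer_singleton_iff.1 (hEH ha)
          have hc : (t * d) * e = e * (t * d) := by
            have h1 : t * e = z * (e * t) := by rw [← h, commutatorElement_def]; group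
            have h2 : d * e = z * (e * d) := by rw [← hde, commutatorElement_def]; group
            calc (t * d) * e = t * (d * e) := mul_assoc _ _ _
              _ = (t * z) * (e * d) := by rw [h2, mul_assoc]
              _ = z * (t * e) * d := by rw [hz'' t ((hDmem t).1 ht).1]; group
              _ = z * z * (e * t) * d := by rw [h1]; group
              _ = e * (t * d) := by rw [← sq, hz2, one_mul, mul_assoc]
          have := hzd _ (hecom (t * d) (mul_mem ht hdD) hc)
          simpa using mul_mem this (inv_mem (mem_zpowers d))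
      -- conjugation by `z'`
      set t := e⁻¹ * (z' * e * z'⁻¹) with ht
      have heE' : z' * e * z'⁻¹ ∈ E := hEn z' hz'H e he
      have hcomz' : ∀ y ∈ D, z' * y = y * z' := fun y hy => (hz'c y).1 ((hDmem y).1 hy).2
      have htD : t ∈ D := (hsplit _ heE').resolve_left fun h => heD ((hz'c e).2 (by
        have := hcomz' _ h
        calc z' * e = (z' * e * z'⁻¹) * z' := by group
          _ = z' * (z' * e * z'⁻¹) := this.symm
          _ = (z' * z') * e * z'⁻¹ := by group
          _ = e * z' := by rw [hz'2, one_mul, inv_eq_of_mul_eq_one_right hz'2]))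
      have hze : z' * e = e * t * z' := by rw [ht]; group
      have ht2 : t * t = 1 := by
        have h : (z' * z') * e = e * (t * t) * (z' * z') := by
          calc (z' * z') * e = z' * (z' * e) := mul_assoc _ _ _
            _ = (z' * e) * t * z' := by rw [show z' * (z' * e) = z' * (e * t * z') from congrArg (z' * ·) hze]; group
            _ = e * t * (z' * t) * z' := by rw [hze]; group
            _ = e * t * (t * z') * z' := by rw [hcomz' t htD]
            _ = _ := by group
        rw [hz'2, one_mul, mul_one] at h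
        exact mul_eq_left.1 h.symm
      have ht1 : t ≠ 1 := fun h => heD ((hz'c e).2 (by rw [hze, h, mul_one]))
      have htz : t = z := by
        obtain ⟨i, hi⟩ := hDd t htD
        have hi' : d ^ i = t := hi
        rcases Int.even_or_odd i with ⟨j, hj⟩ | ⟨j, hj⟩
        · have : t ∈ zpowers z := ⟨j, by
            show z ^ j = t
            rw [← hi', hj, ← two_mul, zpow_mul, zpow_ofNat, hd2]⟩
          exact (hzcases t this).resolve_left ht1
        · exfalso
          have h1 : d ^ (4 * j + 2) = 1 := by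
            rw [show (4 * j + 2) = i + i by omega, zpow_add, hi', ht2]
          rw [show (4 * j + 2) = 2 * (2 * j + 1) by ring, zpow_mul, zpow_ofNat, hd2, zpow_add,
            zpow_mul, zpow_ofNat, hz2, one_zpow, one_mul, zpow_one] at h1
          exact hz1 h1
      -- `d⁻¹ z'` centralizes `E`
      have hde' : d * e = e * z * d := by
        have h2 : d * e = z * (e * d) := by rw [← hde, commutatorElement_def]; group
        rw [h2, ← mul_assoc, ← mem_centralizer_singleton_iff.1 (hEH he)]
      have hw : d⁻¹ * z' ∈ centralizer (E : Set G) := by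
        have hce : Commute (d⁻¹ * z') e := by
          show d⁻¹ * z' * e = e * (d⁻¹ * z')
          rw [mul_assoc, hze, htz, show e * z = d * e * d⁻¹ by rw [hde']; group]
          group
        have hcD : ∀ y ∈ D, Commute (d⁻¹ * z') y := fun y hy =>
          (show Commute d y from hDcomm d hdD y hy).inv_left.mul_left (hcomz' y hy)
        rw [mem_centralizer_iff]
        intro y hy
        rcases hsplit y hy with hy' | hy'
        · exact (hcD y hy').eq.symm
        · have := (hce.mul_right (hcD _ hy')).eq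
          rw [mul_inv_cancel_left] at this
          exact this.symm
      have hz'E : z' ∈ E := by
        have := mul_mem hd (hcent hw)
        simpa using this
      have hz'D : z' ∈ D := (hDmem z').2 ⟨hz'E, (hz'c z').2 rfl⟩
      obtain ⟨i, hi⟩ := hDd z' hz'D
      have hi' : d ^ i = z' := hi
      rcases Int.even_or_odd i with ⟨j, hj⟩ | ⟨j, hj⟩
      · have : z' ∈ zpowers z := ⟨j, by
          show z ^ j = z'
          rw [← hi', hj, ← two_mul, zpow_mul, zpow_ofNat, hd2]⟩
        rcases hzcases z' this with h | h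
        · exact hz1 (conj_eq_one_iff.1 h)
        · refine hgH ?_
          rw [hH, mem_centralizer_singleton_iff]
          calc g * z = z' * g := by rw [hz']; group
            _ = z * g := by rw [h]
      · have h1 : d ^ (4 * j + 2) = 1 := by
          rw [show (4 * j + 2) = i + i by omega, zpow_add, hi', hz'2]
        rw [show (4 * j + 2) = 2 * (2 * j + 1) by ring, zpow_mul, zpow_ofNat, hd2, zpow_add,
          zpow_mul, zpow_ofNat, hz2, one_zpow, one_mul, zpow_one] at h1
        exact hz1 h1
    · -- a large orbit: any extension works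
      let D : Subgroup E := stabilizer E (g : G ⧸ H)
      have hDH : ∀ y : D, g⁻¹ * ((y : E) : G) * g ∈ H := fun y => (hD _).1 y.2
      let δ : D →* Multiplicative (ZMod 2) :=
        { toFun := fun y => φ ⟨_, hDH y⟩
          map_one' := by
            rw [show (⟨_, hDH 1⟩ : H) = 1 from Subtype.ext (by simp), map_one]
          map_mul' := fun a b => by
            rw [← map_mul]; congr 1; ext; simp [mul_assoc] }
      obtain ⟨l, hl1, hl2⟩ := exists_extend (P := E) (z := ⟨z, hzE⟩) (fun y => by
          rw [hZ]; exact CfsgLib.PGroup.extraspecial_pow_mem_center hext y) D δ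
        (fun h => hinv _ (by
          show (g⁻¹ * z * g) ^ 2 = 1
          rw [show g⁻¹ * z * g = g⁻¹ * z * g⁻¹⁻¹ by rw [inv_inv], conj_pow, hz2]; group))
        (Subtype.ext hz2)
      refine ⟨fun y => if h : y ∈ E then l ⟨y, h⟩ else 0, fun a ha b hb => ?_, fun d hd hdq => ?_,
        fun h => absurd h htwo⟩
      · simp only [dif_pos (mul_mem ha hb), dif_pos ha, dif_pos hb]
        exact hl1 ⟨a, ha⟩ ⟨b, hb⟩
      · simp only [dif_pos hd]
        rw [hl2 ⟨⟨d, hd⟩, hdq⟩, hstab d ((hD d).1 hdq)]
        rfl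
  -- conclude by transfer
  obtain ⟨x, hx⟩ := hsur (Multiplicative.ofAdd 1)
  let _ : Fintype (G ⧸ H) := Fintype.ofFinite _
  have hEx : ∀ e, e ∈ E ↔ (x : G) * e * (x : G)⁻¹ ∈ E := fun e =>
    ⟨hEn _ x.2 e, fun h => by simpa [mul_assoc] using hEn _ (inv_mem x.2) _ h⟩
  have hEp : IsPGroup 2 E := hext.1.1
  have hmain := main H E φ hEp hEH x.2 hEx hfix hadm
  have hA : IsPGroup 2 (Multiplicative (ZMod 2)) := IsPGroup.of_card (n := 1) (by simp)
  have htriv : φ.transfer (x : G) = 1 := by
    have h := CfsgLib.Transfer.pResidual_le_ker hA φ.transfer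
    rw [hres] at h
    exact h (mem_top _)
  rw [htriv] at hmain
  refine c42_one ?_
  rw [← hx]
  exact hmain.symm

/-- Characters of order four detect elements of order divisible by four. -/
theorem exists_surj_four {A : Type*} [CommGroup A] [Finite A] {q : A} (hk : ∃ k, orderOf q = 2 ^ k)
    (hq : q ^ 2 ≠ 1) : ∃ ψ : A →* Multiplicative (ZMod 4), Function.Surjective ψ := by
  classical
  obtain ⟨ι, hι, n, hn, ⟨e⟩⟩ := CommGroup.equiv_prod_multiplicative_zmod_of_finite A
  have : ∃ i, 4 ∣ n i := by
    by_contra h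
    push Not at h
    refine hq (e.injective ?_)
    rw [map_one, map_pow]
    ext i
    show (e q i) ^ 2 = 1
    have : NeZero (n i) := ⟨by have := hn i; omega⟩
    obtain ⟨k, hk⟩ := hk
    have h1 : orderOf (e q i) ∣ 2 ^ k := by
      rw [← hk]
      exact (orderOf_map_dvd (Pi.evalMonoidHom _ i) (e q)).trans (by rw [MulEquiv.orderOf_eq])
    have h2 : orderOf (e q i) ∣ n i := by
      have := orderOf_dvd_natCard (e q i)
      simpa [Nat.card_zmod] using this
    obtain ⟨j, -, hj⟩ := (Nat.dvd_prime_pow Nat.prime_two).1 h1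
    rw [hj] at h2
    refine orderOf_dvd_iff_pow_eq_one.1 ?_
    rw [hj]
    by_contra hcon
    refine h i (dvd_trans ?_ h2)
    rw [show 4 = 2 ^ 2 from rfl]
    exact pow_dvd_pow 2 (by
      by_contra hj2
      exact hcon (by interval_cases j <;> norm_num))
  obtain ⟨i, hi⟩ := this
  refine ⟨((ZMod.castHom hi (ZMod 4)).toAddMonoidHom.toMultiplicative).comp
    ((Pi.evalMonoidHom _ i).comp e.toMonoidHom), ?_⟩
  intro y
  obtain ⟨w, hw⟩ := ZMod.castHom_surjective hi (Multiplicative.toAdd y)
  refine ⟨e.symm (Pi.mulSingle i (Multiplicative.ofAdd w)), ?_⟩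
  simp [hw]

end CfsgLib.OrbitTransfer
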